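import Cfsg.Agent.H89.LFiFour.Local

/-!
The centraliser of the group of order eight and its largest normal 2-subgroup.
-/

set_option autoImplicit false
set_option linter.unusedSectionVars false
set_option linter.style.haveILetI false
set_option maxRecDepth 20000

namespace Cfsg.Agent.H89.LFiFour

open Cfsg Cfsg.Agent.Compute Cfsg.Agent.Unitary Cfsg.Agent.H41.SUSix Cfsg.Agent.H41.LFi Matrix

open Cfsg.Agent.H92.ExtraForm (zp zp_inj zp_add)

attribute [local irreducible] mapsC sift invPerm H95.UFourThree.u43Chain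

variable {G : Type*} [Group G] [Finite G] {z : G} {Q : Subgroup G}

namespace Four

variable {S : LSetup z Q} {g : G} (F : Four S g)
include F

/-- The centraliser of the group of order eight. -/
noncomputable def C : Subgroup G := Subgroup.centralizer (F.V : Set G)

theorem C_z {c : G} (hc : c ∈ F.C) : c * z = z * c := (hc z F.z_mem_V).symm

theorem C_s {c : G} (hc : c ∈ F.C) : c * (g * z * g⁻¹) = g * z * g⁻¹ * c := (hc _ F.s_mem_V).symm

theorem C_w {c : G} (hc : c ∈ F.C) : c * F.w = F.w * c := (hc _ F.w_mem).symm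

theorem mem_C {c : G} (h1 : c * z = z * c) (h2 : c * (g * z * g⁻¹) = g * z * g⁻¹ * c)
    (h3 : c * F.w = F.w * c) : c ∈ F.C := by
  intro q hq
  obtain ⟨a, b, e, rfl⟩ := F.V_cases hq
  have hz : ∀ (x : G) (a : ZMod 2), c * x = x * c → Commute c (zp x a) := fun x a h => by
    unfold zp
    split_ifs
    · exact Commute.one_right c
    · exact h
  exact (((hz z a h1).mul_right ((hz _ b h2).mul_right (hz _ e h3)))).symm.eq

theorem C_le_normalizer : F.C ≤ Subgroup.normalizer (F.V : Set G) :=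
  Subgroup.centralizer_le_normalizer _

theorem outer_elt : ∃ o : G, o * z = z * o ∧ o * (g * z * g⁻¹) = g * z * g⁻¹ * o ∧
    S.ρ o = oP 0 := by
  have h : oP 0 ∈ S.imgE g := F.imgE_eq.symm ▸ oP_mem_E (by norm_num)
  obtain ⟨o, ho, e⟩ := S.mem_imgE.1 h
  exact ⟨o, LSetup.sideW_z ho, F.pair.R_comm ho.1, e⟩

theorem oP_r85 : oP 0 r85 = r85 := by
  obtain ⟨o, hoz, hos, e⟩ := F.outer_elt
  rw [← e]
  exact F.ρ_fix hoz hos

theorem oP_not : oP 0 ∉ Kl := fun h => not_both (semi_of_mem_Kl h) (semi_oP 0) F.oP_r85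

theorem ρ_C {c : G} (hc : c ∈ F.C) : S.ρ c ∈ stabK r85 := by
  have hr : S.ρ c r85 = r85 := F.ρ_fix (F.C_z hc) (F.C_s hc)
  obtain ⟨θ, hθ⟩ := S.ρ_semi c (F.C_z hc)
  have hw : S.ρ c (ω₄ • r85) = ω₄ • r85 := by
    rw [← F.π_w, ← S.ρ_π c (F.C_z hc) _ F.w_mem.1, mul_inv_eq_iff_eq_mul.2 (F.C_w hc)]
  refine ⟨?_, hr⟩
  cases θ
  swap
  · exfalso
    have e := hθ.smul ω₄ r85
    rw [hw, hr] at e
    exact absurd (smul_root_inj e) (by decide +kernel)
  by_contra hK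
  obtain ⟨o, hoz, hos, eo⟩ := F.outer_elt
  have h2 := S.two_elts (F.C_z hc) hoz hK (eo ▸ F.oP_not)
  rw [eo] at h2
  have hs : Semi true ⇑(S.ρ c * oP 0) := hθ.comp (semi_oP 0)
  exact not_both (semi_of_mem_Kl h2) hs (by rw [Equiv.Perm.mul_apply, F.oP_r85, hr])

/-- A flip of the second lift. -/
theorem exists_flip_elt : ∃ x ∈ Q, x * (g * z * g⁻¹) = g * z * g⁻¹ * x ∧
    x * F.w * x⁻¹ = z * F.w := by
  obtain ⟨v, h1, h2⟩ := exists_flip
  obtain ⟨x, hx, e⟩ := S.π_surj v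
  refine ⟨x, hx, (S.comm_iff hx F.s_mem).2 (by rw [e, F.root]; exact h1), F.pair.comm_eq hx F.w_mem.1
    fun h => ?_⟩
  rw [S.comm_iff hx F.w_mem.1, e, F.π_w, h2] at h
  exact one_ne_zero h

theorem exists_lift_C {a : Equiv.Perm Vec} (ha : a ∈ stabK r85) : ∃ c ∈ F.C, S.ρ c = a := by
  obtain ⟨c0, hc0, e0⟩ := S.ρ_surj a ha.1
  have hfix : S.ρ c0 (S.π (g * z * g⁻¹)) = S.π (g * z * g⁻¹) := by
    rw [F.root, e0]; exact ha.2
  obtain ⟨d, hdz, hds, ed⟩ := S.lift_fix hc0 F.s_mem F.root_ne hfix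
  have hw : S.π F.w = S.π (d * F.w * d⁻¹) := by
    rw [S.ρ_π d hdz _ F.w_mem.1, ed, e0, F.π_w, (semi_of_mem_Kl ha.1).smul,
      show a r85 = r85 from ha.2]
    rfl
  rcases S.π_eq F.w_mem.1 (S.norm d hdz _ F.w_mem.1) hw with e | e
  · exact ⟨d, F.mem_C hdz hds (mul_inv_eq_iff_eq_mul.1 e), ed.trans e0⟩
  · obtain ⟨x, hx, hxs, hxw⟩ := F.exists_flip_elt
    have hxz := S.le x hx
    refine ⟨x * d, F.mem_C (S.z_comm_mul hxz hdz) ?_ (mul_inv_eq_iff_eq_mul.1 ?_), ?_⟩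
    · rw [mul_assoc, hds, ← mul_assoc, hxs, mul_assoc]
    · calc x * d * F.w * (x * d)⁻¹ = x * (d * F.w * d⁻¹) * x⁻¹ := by group
        _ = x * z * F.w * x⁻¹ := by rw [e]; group
        _ = z * (x * F.w * x⁻¹) := by rw [hxz]; group
        _ = F.w := by rw [hxw, ← mul_assoc, S.z_sq, one_mul]
    · rw [S.ρ_mul x d hxz hdz, (S.ρ_ker x hxz).2 hx, one_mul, ed, e0]

/-- The action of the centraliser on the unitary space. -/
noncomputable def rhoC : ↥F.C →* ↥(stabK r85) :=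
  MonoidHom.mk' (fun c => ⟨S.ρ c, F.ρ_C c.2⟩) fun a b =>
    Subtype.ext (S.ρ_mul a b (F.C_z a.2) (F.C_z b.2))

theorem rhoC_surjective : Function.Surjective F.rhoC := fun a => by
  obtain ⟨c, hc, e⟩ := F.exists_lift_C a.2
  exact ⟨⟨c, hc⟩, Subtype.ext e⟩

/-- The action on the six. -/
noncomputable def psiC : ↥F.C →* ↥(alternatingGroup (Fin 6)) := psiA.comp F.rhoC

theorem psiC_surjective : Function.Surjective F.psiC :=
  psiA_surjective.comp F.rhoC_surjective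

theorem mem_rhoC_ker {c : ↥F.C} : c ∈ F.rhoC.ker ↔ (c : G) ∈ Q := by
  rw [MonoidHom.mem_ker, ← S.ρ_ker (c : G) (F.C_z c.2)]
  exact Subtype.ext_iff

theorem mem_CQ {q : G} (hq : q ∈ Q) : q ∈ F.C ↔ Perp (S.π q) := by
  rw [perp_iff_pol]
  constructor
  · intro hc
    refine ⟨?_, ?_⟩
    · rw [← F.root]; exact (S.comm_iff hq F.s_mem).1 (F.C_s hc)
    · rw [← F.π_w]; exact (S.comm_iff hq F.w_mem.1).1 (F.C_w hc)
  · rintro ⟨h1, h2⟩
    exact F.mem_C (S.le q hq) ((S.comm_iff hq F.s_mem).2 (by rw [F.root]; exact h1))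
      ((S.comm_iff hq F.w_mem.1).2 (by rw [F.π_w]; exact h2))

theorem card_CQ : Nat.card ↥(Q ⊓ F.C) = 2 ^ 11 := by
  let f : ↥Q →* Multiplicative (ZMod 2 × ZMod 2) := MonoidHom.mk'
    (fun q => Multiplicative.ofAdd (pol (S.π q) r85, pol (S.π q) (ω₄ • r85)))
    fun a b => by
      rw [← ofAdd_add, Subgroup.coe_mul, S.π_mul a a.2 b b.2, pol_add_left, pol_add_left]
      rfl
  have hsurj : Function.Surjective f := by
    obtain ⟨v0, a0, b0⟩ := exists_flip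
    obtain ⟨x0, hx0, e0⟩ := S.π_surj v0
    obtain ⟨v1, a1⟩ := pol_nondeg (fun e : r85 = 0 => F.root_ne (by rw [F.root, e]))
    rw [pol_symm] at a1
    obtain ⟨x1, hx1, e1⟩ := S.π_surj v1
    have f0 : Multiplicative.toAdd (f ⟨x0, hx0⟩) = (0, 1) := by
      show (pol (S.π x0) r85, pol (S.π x0) (ω₄ • r85)) = _
      rw [e0, a0, b0]
    have f1 : Multiplicative.toAdd (f ⟨x1, hx1⟩) = (1, pol v1 (ω₄ • r85)) := by
      show (pol (S.π x1) r85, pol (S.π x1) (ω₄ • r85)) = _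
      rw [e1, a1]
    intro t
    have key : ∀ (t : ZMod 2 × ZMod 2) (b : ZMod 2),
        t = 0 ∨ t = (0, 1) ∨ t = (1, b) ∨ t = (1, b) + (0, 1) := by decide
    rcases key (Multiplicative.toAdd t) (pol v1 (ω₄ • r85)) with e | e | e | e
    · exact ⟨1, by rw [map_one]; exact Multiplicative.toAdd.injective e.symm⟩
    · exact ⟨_, Multiplicative.toAdd.injective (f0.trans e.symm)⟩
    · exact ⟨_, Multiplicative.toAdd.injective (f1.trans e.symm)⟩
    · exact ⟨⟨x1, hx1⟩ * ⟨x0, hx0⟩, Multiplicative.toAdd.injective (by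
        rw [map_mul, toAdd_mul, f0, f1, e])⟩
  have hk : f.ker = (Q ⊓ F.C).subgroupOf Q := by
    ext q
    rw [MonoidHom.mem_ker, Subgroup.mem_subgroupOf, Subgroup.mem_inf, and_iff_right q.2,
      F.mem_CQ q.2, perp_iff_pol]
    exact ofAdd_eq_one.trans Prod.ext_iff
  have hc := Subgroup.card_mul_index f.ker
  rw [Subgroup.index_ker, MonoidHom.range_eq_top.2 hsurj, Nat.card_congr Subgroup.topEquiv.toEquiv,
    Nat.card_congr Multiplicative.toAdd, Nat.card_prod, Nat.card_zmod, hk,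
    Nat.card_congr (Subgroup.subgroupOfEquivOfLe inf_le_left).toEquiv, S.card_Q] at hc
  omega

theorem card_C : Nat.card F.C = 2 ^ 11 * 5760 := by
  rw [← Subgroup.card_mul_index F.rhoC.ker, Subgroup.index_ker,
    MonoidHom.range_eq_top.2 F.rhoC_surjective, Nat.card_congr Subgroup.topEquiv.toEquiv,
    card_stab_three]
  congr 1
  rw [← F.card_CQ]
  exact Nat.card_congr
    { toFun := fun c => ⟨c.1.1, F.mem_rhoC_ker.1 c.2, c.1.2⟩
      invFun := fun c => ⟨⟨c.1, c.2.2⟩, F.mem_rhoC_ker.2 c.2.1⟩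
      left_inv := fun _ => rfl
      right_inv := fun _ => rfl }

/-- The largest normal 2-subgroup. -/
noncomputable def R : Subgroup G := F.psiC.ker.map F.C.subtype

theorem R_le_C : F.R ≤ F.C := Subgroup.map_subtype_le _

theorem mem_R {c : G} : c ∈ F.R ↔ c ∈ F.C ∧ S.ρ c ∈ Agrp := by
  have h : ∀ c : ↥F.C, c ∈ F.psiC.ker ↔ S.ρ (c : G) ∈ Agrp := fun c => by
    show c ∈ psiA.ker.comap F.rhoC ↔ _
    rw [Subgroup.mem_comap, psiA_ker]
    rfl
  constructor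
  · rintro ⟨c, hc, rfl⟩
    exact ⟨c.2, (h c).1 hc⟩
  · rintro ⟨hc, ha⟩
    exact ⟨⟨c, hc⟩, (h _).2 ha, rfl⟩

theorem card_R : Nat.card F.R = 2 ^ 15 := by
  rw [R, ← Nat.card_congr (F.psiC.ker.equivMapOfInjective _ (Subgroup.subtype_injective _)).toEquiv]
  have h := Subgroup.card_mul_index F.psiC.ker
  rw [Subgroup.index_ker, MonoidHom.range_eq_top.2 F.psiC_surjective,
    Nat.card_congr Subgroup.topEquiv.toEquiv, F.card_C,
    show Nat.card (alternatingGroup (Fin 6)) = 360 by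
      rw [nat_card_alternatingGroup, Nat.card_fin]; decide] at h
  omega

theorem R_pgroup : IsPGroup 2 F.R := IsPGroup.of_card F.card_R

theorem CQ_le_R {q : G} (hq : q ∈ Q) (hc : q ∈ F.C) : q ∈ F.R :=
  F.mem_R.2 ⟨hc, by rw [(S.ρ_ker q (F.C_z hc)).2 hq]; exact one_mem _⟩

theorem V_le_R : F.V ≤ F.R := fun q hq =>
  F.CQ_le_R hq.1 fun _ hp => F.V_comm hp hq

/-- A normal 2-subgroup of the centraliser lies in the kernel. -/
theorem two_sub_le {P : Subgroup G} (hP : P ≤ F.C) (hn : ∀ c ∈ F.C, ∀ p ∈ P, c * p * c⁻¹ ∈ P)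
    (h2 : IsPGroup 2 P) : P ≤ F.R := by
  haveI hnor : (P.subgroupOf F.C).Normal := ⟨fun p hp c => hn c.1 c.2 p.1 hp⟩
  haveI := hnor.map F.psiC F.psiC_surjective
  haveI := isSimple_alt_six
  rcases IsSimpleGroup.eq_bot_or_eq_top_of_normal ((P.subgroupOf F.C).map F.psiC) inferInstance
    with h | h
  · intro p hp
    refine ⟨⟨p, hP hp⟩, ?_, rfl⟩
    rw [SetLike.mem_coe, MonoidHom.mem_ker, ← Subgroup.mem_bot, ← h]
    exact Subgroup.mem_map_of_mem _ (show (⟨p, hP hp⟩ : ↥F.C) ∈ P.subgroupOf F.C from hp)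
  · exfalso
    haveI : Fact (Nat.Prime 2) := ⟨Nat.prime_two⟩
    have hp : IsPGroup 2 ↥((P.subgroupOf F.C).map F.psiC) :=
      (h2.of_equiv (Subgroup.subgroupOfEquivOfLe hP).symm).map _
    rw [h] at hp
    obtain ⟨n, hn⟩ := IsPGroup.iff_card.1 hp
    rw [Subgroup.card_top, nat_card_alternatingGroup, Nat.card_fin] at hn
    have h5 : 5 ∣ 2 ^ n := hn ▸ (by decide : 5 ∣ Nat.factorial 6 / 2)
    have := Nat.prime_five.dvd_of_dvd_pow h5
    omega

theorem C_conj {n c : G} (hn : n ∈ Subgroup.normalizer (F.V : Set G)) (hc : c ∈ F.C) :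
    n * c * n⁻¹ ∈ F.C := by
  intro q hq
  have h : n⁻¹ * q * n ∈ F.V := by
    have := (Subgroup.mem_normalizer_iff.1 (inv_mem hn) q).1 hq
    rwa [inv_inv] at this
  have e : n⁻¹ * q * n * c = c * (n⁻¹ * q * n) := hc _ h
  calc q * (n * c * n⁻¹) = n * ((n⁻¹ * q * n) * c) * n⁻¹ := by group
    _ = n * (c * (n⁻¹ * q * n)) * n⁻¹ := by rw [e]
    _ = n * c * n⁻¹ * q := by group

theorem R_conj {n r : G} (hn : n ∈ Subgroup.normalizer (F.V : Set G)) (hr : r ∈ F.R) :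
    n * r * n⁻¹ ∈ F.R := by
  have hle : F.R.map (MulAut.conj n).toMonoidHom ≤ F.C := by
    rintro _ ⟨x, hx, rfl⟩
    exact F.C_conj hn (F.R_le_C hx)
  have hnorm : ∀ c ∈ F.C, ∀ p ∈ F.R.map (MulAut.conj n).toMonoidHom,
      c * p * c⁻¹ ∈ F.R.map (MulAut.conj n).toMonoidHom := by
    rintro c hc _ ⟨x, hx, rfl⟩
    obtain ⟨x', hx', rfl⟩ := hx
    have hc' : n⁻¹ * c * n ∈ F.C := by
      have := F.C_conj (inv_mem hn) hc
      rwa [inv_inv] at this
    refine ⟨(⟨_, hc'⟩ * x' * ⟨_, hc'⟩⁻¹ : ↥F.C), ⟨_,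
      (MonoidHom.normal_ker F.psiC).conj_mem x' hx' ⟨_, hc'⟩, rfl⟩, ?_⟩
    show n * (n⁻¹ * c * n * (x' : G) * (n⁻¹ * c * n)⁻¹) * n⁻¹ = c * (n * (x' : G) * n⁻¹) * c⁻¹
    group
  exact F.two_sub_le hle hnorm (F.R_pgroup.map _) ⟨r, hr, rfl⟩

end Four

end Cfsg.Agent.H89.LFiFour
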