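import Cfsg.Agent.H41.LFi.DSet

/-!
Kernel checks on the orthogonal of the line over the root of the second class of isotropic vectors
of the model of 3.U₄(3), for the 2-local subgroup of shape 2^(3+12).(L₃(2) × A₆).
-/

set_option autoImplicit false
set_option Elab.async false
set_option maxRecDepth 100000
set_option maxHeartbeats 4000000

namespace Cfsg.Agent.H89.LFiFour

open Cfsg.Agent.Compute Cfsg.Agent.H41.SUSix Cfsg.Agent.H41.LFi

/-- The code lies on the line of the root. -/
noncomputable def onLineC (v : ℕ) : Bool := anyN 4 (fun c => Nat.beq v (scalC c 85))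

/-- Coded trace of the hermitian product. -/
noncomputable def polC (v w : ℕ) : ℕ := getP 1 (dotC v (frobC w)) 1

/-- A basis of the orthogonal of the line over the prime field. -/
noncomputable def perpB : List ℕ := [5, 10, 17, 34, 65, 130, 256, 512, 1024, 2048]

/-- The `i`-th basis vector of the orthogonal. -/
noncomputable def pbC (i : ℕ) : ℕ := nth 0 perpB i

theorem fixed_line : allN 64 (fun m => cond (allN 4 (fun l =>
    Nat.beq (Nat.xor (xApC (Nat.add 4 l) (dC m)) (dC m)) 0 ||
    Nat.beq (Nat.xor (xApC (Nat.add 4 l) (dC m)) (dC m)) 85))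
    (onLineC (dC m)) true) = true := by decide +kernel

theorem a_perp : allN 16 (fun j => allN 4096 (fun v =>
    cond (Nat.beq (dot85 v) 0) (onLineC (Nat.xor (aApC j v) v)) true)) = true := by decide +kernel

theorem a_moves : allN 16 (fun j => Nat.beq j 0 ||
    anyN 10 (fun i => !Nat.beq (aApC j (pbC i)) (pbC i))) = true := by decide +kernel

theorem perp_basis : allN 10 (fun i => Nat.beq (dot85 (pbC i)) 0 &&
    Nat.ble (Nat.add (pbC i) 1) 4096) = true := by decide +kernel

theorem perp_perp : allN 4096 (fun v =>
    cond (allN 10 (fun i => Nat.beq (polC v (pbC i)) 0)) (onLineC v) true) = true := by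
  decide +kernel

theorem line_zero : allN 4 (fun c => Nat.beq c 0 || !Nat.beq (scalC c 85) 0) = true := by
  decide +kernel

theorem witness : dot85 5 = 0 ∧ dot85 34 = 0 ∧ polC 5 34 = 1 ∧ polC 1 85 = 0 ∧ polC 1 170 = 1 := by
  decide +kernel

end Cfsg.Agent.H89.LFiFour
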