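import Cfsg.Agent.H41.LFi.Core
import Cfsg.Agent.H89.LFiFour.Check

/-!
The orthogonal of the line over the root of the second class of isotropic vectors: the group of
order sixteen moves it into the line, the four lifts fix only the line in the subgroup of order 64
modulo the root.
-/

set_option autoImplicit false
set_option maxRecDepth 20000

namespace Cfsg.Agent.H89.LFiFour

open Cfsg Cfsg.Agent.Compute Cfsg.Agent.H41.SUSix Cfsg.Agent.H41.LFi Matrix

/-- The vectors of the line of the root. -/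
def OnLine (v : Vec) : Prop := ∃ c : K4, v = c • r85

/-- The orthogonal of the line. -/
def Perp (v : Vec) : Prop := hermForm 6 K4 2 v r85 = 0

theorem vec_add_self (v : Vec) : v + v = 0 := by
  funext i
  exact (by decide +kernel : ∀ a : K4, a + a = 0) (v i)

theorem onLine_add {u v : Vec} (hu : OnLine u) (hv : OnLine v) : OnLine (u + v) := by
  obtain ⟨a, rfl⟩ := hu
  obtain ⟨b, rfl⟩ := hv
  exact ⟨a + b, (add_smul a b r85).symm⟩

theorem onLine_zero : OnLine 0 := ⟨0, (zero_smul K4 r85).symm⟩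

theorem onLine_root : OnLine r85 := ⟨1, (one_smul K4 r85).symm⟩

theorem onLine_omega : OnLine (ω₄ • r85) := ⟨ω₄, rfl⟩

theorem onLine_of_code {v : ℕ} (h : onLineC v = true) : OnLine (dV v) := by
  obtain ⟨c, hc, e⟩ := (anyN_iff _ _).1 h
  exact ⟨fe c, by rw [Nat.eq_of_beq_eq_true e, dV_scalC hc]; rfl⟩

theorem k4_cases : ∀ c : K4, c = 0 ∨ c = 1 ∨ c = ω₄ ∨ c = 1 + ω₄ := by decide +kernel

theorem mem_D_of_onLine {v : Vec} (h : OnLine v) : v ∈ Dset := by
  obtain ⟨c, rfl⟩ := h
  rcases k4_cases c with rfl | rfl | rfl | rfl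
  · rw [zero_smul]; exact zero_mem _
  · rw [one_smul]; exact r85_mem_D
  · exact smul_r85_mem_D
  · rw [add_smul, one_smul]; exact add_mem r85_mem_D smul_r85_mem_D

theorem smul_root_eq_zero {c : K4} (h : c • r85 = 0) : c = 0 := by
  have hh := (allN_iff _ _).1 line_zero (fc c) (fc_lt c)
  rw [Bool.or_eq_true, Nat.beq_eq, Bool.not_eq_true'] at hh
  rcases hh with e | e
  · rw [← fe_fc c, e]; rfl
  · have : scalC (fc c) 85 = 0 := by
      refine dV_inj (scalC_lt _ _) (by norm_num) ?_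
      rw [dV_scalC (fc_lt c), fe_fc, dV_zero]
      exact h
    rw [this] at e
    exact absurd e (by decide)

theorem smul_root_inj {c d : K4} (h : c • r85 = d • r85) : c = d := by
  have h' : (c + d) • r85 = 0 := by rw [add_smul, h, vec_add_self]
  exact (by decide +kernel : ∀ a b : K4, a + b = 0 → a = b) _ _ (smul_root_eq_zero h')

theorem omega_root_ne : ω₄ • r85 ≠ 0 ∧ ω₄ • r85 ≠ r85 := by
  refine ⟨fun h => absurd (smul_root_eq_zero h) (by decide +kernel), fun h => ?_⟩
  exact absurd (smul_root_inj (h.trans (one_smul K4 r85).symm)) (by decide +kernel)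

theorem polC_spec (v w : ℕ) : pol (dV v) (dV w) = (polC v w : ZMod 2) := by
  have key : ∀ x < 4, trK (fe x) = (getP 1 x 1 : ZMod 2) := by decide +kernel
  obtain ⟨h1, h2⟩ := dotC_spec v (frobC w)
  rw [polC, ← key _ h1, h2, dV_frobC, pol_eq]
  rfl

theorem perp_iff_code {v : ℕ} (hv : v < 4096) : Perp (dV v) ↔ dot85 v = 0 := by
  have hh : hermForm 6 K4 2 (dV v) r85 = fe (dot85 v) := dot85_herm ⟨v, hv⟩
  have h4 : dot85 v < 4 := by
    have a := getP_lt 2 v
    exact (fe_add _ (fe_add _ (a 0) _ (a 1)).1 _ (fe_add _ (a 2) _ (a 3)).1).1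
  rw [Perp, hh]
  exact (by decide +kernel : ∀ x < 4, fe x = 0 ↔ x = 0) _ h4

theorem perp_iff_pol {v : Vec} : Perp v ↔ pol v r85 = 0 ∧ pol v (ω₄ • r85) = 0 := by
  have h : hermForm 6 K4 2 v (ω₄ • r85) = ω₄ ^ 2 * hermForm 6 K4 2 v r85 := by
    rw [hermForm, hermForm, Finset.mul_sum]
    refine Finset.sum_congr rfl fun i _ => ?_
    rw [Pi.smul_apply, smul_eq_mul, mul_pow]
    ring
  rw [pol_eq, pol_eq, h, Perp]
  exact (by decide +kernel : ∀ x : K4, x = 0 ↔ trK x = 0 ∧ trK (ω₄ ^ 2 * x) = 0) _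

theorem pol_line {v : Vec} (hv : Perp v) {u : Vec} (hu : OnLine u) : pol v u = 0 := by
  obtain ⟨h1, h2⟩ := perp_iff_pol.1 hv
  obtain ⟨c, rfl⟩ := hu
  rcases k4_cases c with rfl | rfl | rfl | rfl
  · have h := pol_add_right v (0 • r85) (0 • r85 : Vec)
    rw [zero_smul, add_zero] at h
    rw [zero_smul]
    exact (left_eq_add.1 h)
  · rw [one_smul]; exact h1
  · exact h2
  · rw [add_smul, one_smul, pol_add_right, h1, h2, add_zero]

/-- In the subgroup of order 64 only the line is fixed modulo the root by the four lifts. -/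
theorem line_of_fixed {v : Vec} (hv : v ∈ Dset)
    (h : ∀ l, lP l v + v = 0 ∨ lP l v + v = r85) : OnLine v := by
  obtain ⟨m, hm, rfl⟩ := hv
  have hh := (allN_iff _ _).1 fixed_line m hm
  have hc : allN 4 (fun l => Nat.beq (Nat.xor (xApC (Nat.add 4 l) (dC m)) (dC m)) 0 ||
      Nat.beq (Nat.xor (xApC (Nat.add 4 l) (dC m)) (dC m)) 85) = true := by
    rw [allN_iff]
    intro l hl
    rw [Bool.or_eq_true, Nat.beq_eq, Nat.beq_eq]
    have hlt := xor_lt (mulVecC_lt (xC (Nat.add 4 l)) (dC m)) (dC_lt hm)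
    have e := h ⟨l, hl⟩
    rw [lP_dV, ← dV_xor] at e
    rcases e with e | e
    · exact Or.inl (dV_inj hlt (by norm_num) (e.trans dV_zero.symm))
    · exact Or.inr (dV_inj hlt (by norm_num) e)
  rw [hc] at hh
  exact onLine_of_code hh

/-- The group of order sixteen moves the orthogonal into the line. -/
theorem A_perp {a : Equiv.Perm Vec} (ha : a ∈ Agrp) {v : Vec} (hv : Perp v) :
    OnLine (a v + v) := by
  obtain ⟨j, hj, rfl⟩ := ha
  obtain ⟨n, hn, rfl⟩ : ∃ n < 4096, v = dV n := ⟨eV v, eV_lt v, (dV_eV v).symm⟩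
  have hh := (allN_iff _ _).1 ((allN_iff _ _).1 a_perp j hj) n hn
  rw [(perp_iff_code hn).1 hv] at hh
  rw [aP_dV, ← dV_xor]
  exact onLine_of_code hh

theorem perp_pb {i : ℕ} (hi : i < 10) : Perp (dV (pbC i)) ∧ pbC i < 4096 := by
  have h := (allN_iff _ _).1 perp_basis i hi
  rw [Bool.and_eq_true, Nat.beq_eq, Nat.ble_eq] at h
  exact ⟨(perp_iff_code h.2).2 h.1, h.2⟩

/-- The group of order sixteen acts faithfully on the orthogonal. -/
theorem A_moves {a : Equiv.Perm Vec} (ha : a ∈ Agrp) (h : ∀ v, Perp v → a v = v) : a = 1 := by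
  obtain ⟨j, hj, rfl⟩ := ha
  have hh := (allN_iff _ _).1 a_moves j hj
  rw [Bool.or_eq_true, Nat.beq_eq, anyN_iff] at hh
  rcases hh with rfl | ⟨i, hi, e⟩
  · exact aP_zero
  · exfalso
    have e' := h _ (perp_pb hi).1
    rw [aP_dV] at e'
    have hlt : aApC j (pbC i) < 4096 := by
      have hb : ∀ k v, v < 4096 → bitApC j k v < 4096 := fun k v hv => by
        unfold bitApC
        cases Nat.beq (getP 1 j k) 1
        · exact hv
        · exact mulVecC_lt _ _
      exact hb _ _ (hb _ _ (hb _ _ (hb _ _ (perp_pb hi).2)))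
    rw [dV_inj hlt (perp_pb hi).2 e', Nat.beq_refl] at e
    exact Bool.noConfusion e

/-- The line is the orthogonal of its orthogonal. -/
theorem line_of_perp {v : Vec} (h : ∀ w, Perp w → pol v w = 0) : OnLine v := by
  obtain ⟨n, hn, rfl⟩ : ∃ n < 4096, v = dV n := ⟨eV v, eV_lt v, (dV_eV v).symm⟩
  have hh := (allN_iff _ _).1 perp_perp n hn
  have hc : allN 10 (fun i => Nat.beq (polC n (pbC i)) 0) = true := by
    rw [allN_iff]
    intro i hi
    rw [Nat.beq_eq]
    have e := h _ (perp_pb hi).1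
    rw [polC_spec] at e
    have h2 : polC n (pbC i) < 2 := getP_lt 1 _ _
    rcases (show polC n (pbC i) = 0 ∨ polC n (pbC i) = 1 by omega) with e' | e'
    · exact e'
    · rw [e'] at e
      exact absurd e (by decide)
  rw [hc] at hh
  exact onLine_of_code hh

theorem exists_noncomm : ∃ v w, Perp v ∧ Perp w ∧ pol v w = 1 := by
  obtain ⟨h1, h2, h3, -⟩ := witness
  refine ⟨dV 5, dV 34, (perp_iff_code (by norm_num)).2 h1, (perp_iff_code (by norm_num)).2 h2, ?_⟩
  rw [polC_spec, h3]; rfl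

theorem exists_flip : ∃ v, pol v r85 = 0 ∧ pol v (ω₄ • r85) = 1 := by
  obtain ⟨-, -, -, h4, h5⟩ := witness
  refine ⟨dV 1, ?_, ?_⟩
  · rw [show r85 = dV 85 from rfl, polC_spec, h4]; rfl
  · have e : ω₄ • r85 = dV 170 := by
      rw [← d_roots.2.2.1, dV_scalC (by norm_num)]
      rfl
    rw [e, polC_spec, h5]; rfl

end Cfsg.Agent.H89.LFiFour
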