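import Cfsg.Agent.H41.LFi.Pair
import Cfsg.Agent.H89.LFiFour.Model

/-!
The four-element line over a conjugate of the central involution in the core gives an elementary
abelian group of order eight: it is the same seen from either involution.
-/

set_option autoImplicit false
set_option linter.unusedSectionVars false
set_option linter.style.haveILetI false
set_option maxRecDepth 20000

namespace Cfsg.Agent.H89.LFiFour

open Cfsg Cfsg.Agent.Compute Cfsg.Agent.Unitary Cfsg.Agent.H41.SUSix Cfsg.Agent.H41.LFi Matrix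

open Cfsg.Agent.H92.ExtraForm (zp zp_inj zp_add)

attribute [local irreducible] mapsC sift invPerm H95.UFourThree.u43Chain

theorem herm_smul_right (c : K4) (u v : Vec) :
    hermForm 6 K4 2 u (c • v) = c ^ 2 * hermForm 6 K4 2 u v := by
  rw [hermForm, hermForm, Finset.mul_sum]
  refine Finset.sum_congr rfl fun i _ => ?_
  rw [Pi.smul_apply, smul_eq_mul, mul_pow]
  ring

theorem perp_root : Perp r85 := (perp_iff_code (by norm_num)).2 (by decide +kernel)

theorem wt_line {u : Vec} (h : OnLine u) : wt u = 0 := by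
  obtain ⟨c, rfl⟩ := h
  have e := herm_self (c • r85)
  rw [herm_smul_left, herm_smul_right, show hermForm 6 K4 2 r85 r85 = 0 from perp_root, mul_zero,
    mul_zero] at e
  exact (by decide +kernel : ∀ a, 0 = iot a → a = 0) _ e

theorem semi_line {θ : Bool} {a : Equiv.Perm Vec} (ha : Semi θ a) (hr : a r85 = r85) {u : Vec}
    (hu : OnLine u) : a u + u = 0 ∨ a u + u = r85 := by
  obtain ⟨c, rfl⟩ := hu
  rw [ha.smul, hr, ← add_smul]
  rcases (by decide +kernel : ∀ θ c, tw θ c + c = 0 ∨ tw θ c + c = 1) θ c with e | e <;> rw [e]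
  · exact Or.inl (zero_smul K4 r85)
  · exact Or.inr (one_smul K4 r85)

theorem semi_line_mem {θ : Bool} {a : Equiv.Perm Vec} (ha : Semi θ a) (hr : OnLine (a r85))
    {u : Vec} (hu : OnLine u) : OnLine (a u) := by
  obtain ⟨c, rfl⟩ := hu
  obtain ⟨d, hd⟩ := hr
  exact ⟨tw θ c * d, by rw [ha.smul, hd, smul_smul]⟩

theorem not_both {a : Equiv.Perm Vec} (hf : Semi false a) (ht : Semi true a) (hr : a r85 = r85) :
    False := by
  have e := hf.smul ω₄ r85
  rw [ht.smul ω₄ r85, hr] at e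
  exact absurd (smul_root_inj e) (by decide +kernel)

theorem mem_normalizer_of_map {G : Type*} [Group G] [Finite G] {H : Subgroup G} {n : G}
    (h : ∀ x ∈ H, n * x * n⁻¹ ∈ H) : n ∈ Subgroup.normalizer (H : Set G) := by
  have hinj : Function.Injective (fun x : ↥H => (⟨n * x * n⁻¹, h x x.2⟩ : ↥H)) := fun x y e =>
    Subtype.ext (mul_left_cancel (mul_right_cancel (congrArg Subtype.val e)))
  refine Subgroup.mem_normalizer_iff.2 fun x => ⟨h x, fun hx => ?_⟩
  obtain ⟨y, hy⟩ := Finite.injective_iff_surjective.1 hinj ⟨_, hx⟩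
  have : (y : G) = x := mul_left_cancel (mul_right_cancel (congrArg Subtype.val hy))
  exact this ▸ y.2

/-- A conjugate of the central involution in the core lying over the root. -/
structure Four {G : Type*} [Group G] [Finite G] {z : G} {Q : Subgroup G} (S : LSetup z Q)
    (g : G) : Prop where
  pair : H92.PairSetting Q z g
  root : S.π (g * z * g⁻¹) = r85

variable {G : Type*} [Group G] [Finite G] {z : G} {Q : Subgroup G}

theorem exists_four (Q' : Subgroup (Subgroup.centralizer ({z} : Set G))) [Q'.Normal]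
    (hF : Cfsg.IsOfLargeFischerTypeAt z Q')
    (S : LSetup z (Q'.map (Subgroup.centralizer ({z} : Set G)).subtype)) :
    ∃ g, Four S g := by
  obtain ⟨g, hg, hne⟩ := S.nwc
  have h := pair_of Q' hF hg hne
  obtain ⟨k, hk, ek⟩ := transitive (Or.inr rfl) (S.cls_eq_three h)
  obtain ⟨c, hc, ec⟩ := S.ρ_surj _ (Kl.inv_mem hk)
  have e : c * g * z * (c * g)⁻¹ = c * (g * z * g⁻¹) * c⁻¹ := by group
  have hmem := S.norm c hc _ hg
  have hne' : c * g * z * (c * g)⁻¹ ≠ z := fun h' => hne <| by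
    rw [e, mul_inv_eq_iff_eq_mul, ← hc] at h'
    exact mul_left_cancel h'
  refine ⟨c * g, pair_of Q' hF (e ▸ hmem) hne', ?_⟩
  rw [e, S.ρ_π c hc _ hg, ec]
  exact k.symm_apply_eq.2 ek.symm

namespace Four

variable {S : LSetup z Q} {g : G} (F : Four S g)
include F

theorem shape : S.Shape g 1 := S.shape F.pair (one_mem Kl) F.root.symm

theorem imgE_eq : S.imgE g = Egrp := by
  ext a
  rw [F.shape.img, Subgroup.mem_map_equiv, MulAut.conj_symm_apply, inv_one, one_mul, mul_one]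

theorem s_mem : g * z * g⁻¹ ∈ Q := F.pair.hs

theorem root_ne : S.π (g * z * g⁻¹) ≠ 0 := S.π_s_ne F.pair

theorem s_comm : g * z * g⁻¹ * z = z * (g * z * g⁻¹) := S.le _ F.s_mem

theorem π_D {d : G} (hd : d ∈ LSetup.meetD Q g) : S.π d ∈ Dset :=
  (F.shape.meet _).1 ⟨d, hd, rfl⟩

theorem mem_D {q : G} (hq : q ∈ Q) (h : S.π q ∈ Dset) : q ∈ LSetup.meetD Q g := by
  obtain ⟨d, hd, e⟩ := (F.shape.meet _).2 (show (1 : Equiv.Perm Vec)⁻¹ (S.π q) ∈ Dset from h)
  rcases S.π_eq hd.1 hq e with e' | e'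
  · exact e' ▸ hd
  · exact e' ▸ mul_mem (S.z_mem_D F.pair) hd

/-- The group of order eight. -/
def V (_hF : Four S g) : Subgroup G where
  carrier := {q | q ∈ Q ∧ OnLine (S.π q)}
  one_mem' := ⟨Q.one_mem, by rw [S.π_one]; exact onLine_zero⟩
  mul_mem' := by
    rintro a b ⟨ha, ha'⟩ ⟨hb, hb'⟩
    exact ⟨mul_mem ha hb, by rw [S.π_mul a ha b hb]; exact onLine_add ha' hb'⟩
  inv_mem' := by
    rintro a ⟨ha, ha'⟩
    exact ⟨inv_mem ha, by rw [S.π_inv ha]; exact ha'⟩

theorem mem_V {q : G} : q ∈ F.V ↔ q ∈ Q ∧ OnLine (S.π q) := Iff.rfl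

theorem z_mem_V : z ∈ F.V := ⟨S.hzQ, by rw [S.π_z]; exact onLine_zero⟩

theorem s_mem_V : g * z * g⁻¹ ∈ F.V := ⟨F.s_mem, by rw [F.root]; exact onLine_root⟩

theorem V_le_D : F.V ≤ LSetup.meetD Q g := fun _ hq => F.mem_D hq.1 (mem_D_of_onLine hq.2)

theorem V_sq {q : G} (hq : q ∈ F.V) : q * q = 1 := S.D_sq F.pair (F.V_le_D hq)

theorem V_comm {a b : G} (ha : a ∈ F.V) (hb : b ∈ F.V) : a * b = b * a :=
  S.D_comm F.pair (F.V_le_D ha) (F.V_le_D hb)

theorem isElementary : Cfsg.IsElementaryAbelian 2 F.V :=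
  ⟨⟨⟨fun a b => Subtype.ext (F.V_comm a.2 b.2)⟩⟩, fun a ha => by rw [pow_two]; exact F.V_sq ha⟩

/-- An element of the core over a multiple of the root. -/
theorem exists_w : ∃ w ∈ F.V, S.π w = ω₄ • r85 := by
  obtain ⟨w, hw, e⟩ := S.π_surj (ω₄ • r85)
  exact ⟨w, ⟨hw, e ▸ onLine_omega⟩, e⟩

/-- The chosen element over a multiple of the root. -/
noncomputable def w : G := Classical.choose F.exists_w

theorem w_mem : F.w ∈ F.V := (Classical.choose_spec F.exists_w).1

theorem π_w : S.π F.w = ω₄ • r85 := (Classical.choose_spec F.exists_w).2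

theorem s_mul_π {q : G} (hq : q ∈ Q) : S.π (g * z * g⁻¹ * q) = r85 + S.π q := by
  rw [S.π_mul _ F.s_mem q hq, F.root]

theorem V_cases {q : G} (hq : q ∈ F.V) : ∃ a b c : ZMod 2,
    q = zp z a * (zp (g * z * g⁻¹) b * zp F.w c) := by
  obtain ⟨hqQ, e, he⟩ := hq
  have hw := F.w_mem.1
  have build : ∀ b c, S.π (zp (g * z * g⁻¹) b * zp F.w c) = S.π q →
      ∃ a b c : ZMod 2, q = zp z a * (zp (g * z * g⁻¹) b * zp F.w c) := by
    intro b c h
    have hm : zp (g * z * g⁻¹) b * zp F.w c ∈ Q := by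
      unfold zp
      split_ifs <;> simp [F.s_mem, hw, mul_mem]
    rcases S.π_eq hm hqQ h with e | e
    · exact ⟨0, b, c, by simpa [zp] using e⟩
    · exact ⟨1, b, c, by simpa [zp] using e⟩
  rcases k4_cases e with rfl | rfl | rfl | rfl
  · refine build 0 0 ?_
    simp [zp, S.π_one, he]
  · refine build 1 0 ?_
    simp only [zp, one_ne_zero, if_false, if_true, mul_one, F.root, he, one_smul]
  · refine build 0 1 ?_
    simp only [zp, one_ne_zero, if_false, if_true, one_mul, F.π_w, he]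
  · refine build 1 1 ?_
    simp only [zp, one_ne_zero, if_false]
    rw [F.s_mul_π hw, F.π_w, he, add_smul, one_smul]

theorem card_V : Nat.card F.V = 8 := by
  have hle : F.V ≤ Q := fun q hq => hq.1
  rw [S.card_piImage F.V hle F.z_mem_V]
  suffices h : Nat.card (S.piImage F.V hle) = 4 by rw [h]
  have h4 : Nat.card K4 = 4 := by rw [Nat.card_eq_fintype_card]; rfl
  rw [← h4]
  refine (Nat.card_congr (Equiv.ofBijective (fun c : K4 => (⟨c • r85, by
    obtain ⟨q, hq, e⟩ := S.π_surj (c • r85)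
    exact ⟨q, ⟨hq, c, e⟩, e⟩⟩ : S.piImage F.V hle)) ⟨?_, ?_⟩)).symm
  · exact fun a b h => smul_root_inj (congrArg Subtype.val h)
  · rintro ⟨v, q, hq, rfl⟩
    obtain ⟨c, hc⟩ := hq.2
    exact ⟨c, Subtype.ext hc.symm⟩

/-- An element of the centraliser of the central involution whose image fixes the line
normalises the group of order eight. -/
theorem mem_normalizer_V {c : G} (hc : c * z = z * c) (h : OnLine (S.ρ c r85)) :
    c ∈ Subgroup.normalizer (F.V : Set G) := by
  obtain ⟨θ, hθ⟩ := S.ρ_semi c hc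
  refine mem_normalizer_of_map fun q hq => ⟨S.norm c hc q hq.1, ?_⟩
  rw [S.ρ_π c hc q hq.1]
  exact semi_line_mem hθ h hq.2

theorem ρ_fix {c : G} (hc : c * z = z * c) (hs : c * (g * z * g⁻¹) = g * z * g⁻¹ * c) :
    S.ρ c r85 = r85 := by
  rw [← F.root, ← S.ρ_π c hc _ F.s_mem, mul_inv_eq_iff_eq_mul.2 hs]

/-- The characterisation from both involutions. -/
theorem V_char {d : G} : d ∈ F.V ↔ d ∈ LSetup.meetD Q g ∧
    ∀ c : G, c * z = z * c → c * (g * z * g⁻¹) = g * z * g⁻¹ * c →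
      c * d * c⁻¹ = d ∨ c * d * c⁻¹ = z * d ∨ c * d * c⁻¹ = g * z * g⁻¹ * d ∨
        c * d * c⁻¹ = z * (g * z * g⁻¹) * d := by
  constructor
  · intro hd
    refine ⟨F.V_le_D hd, fun c hc hs => ?_⟩
    obtain ⟨θ, hθ⟩ := S.ρ_semi c hc
    have hm := S.norm c hc d hd.1
    have e := S.ρ_π c hc d hd.1
    rcases semi_line hθ (F.ρ_fix hc hs) hd.2 with h | h
    · have h' : S.π d = S.π (c * d * c⁻¹) := by
        rw [e, ← sub_eq_zero, sub_eq_add_neg, neg_eq_of_add_eq_zero_left (vec_add_self _),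
          add_comm]
        exact h
      rcases S.π_eq hd.1 hm h' with e' | e'
      · exact Or.inl e'
      · exact Or.inr (Or.inl e')
    · have h' : S.π (g * z * g⁻¹ * d) = S.π (c * d * c⁻¹) := by
        rw [F.s_mul_π hd.1, e, ← h, add_assoc, vec_add_self, add_zero]
      rcases S.π_eq (mul_mem F.s_mem hd.1) hm h' with e' | e'
      · exact Or.inr (Or.inr (Or.inl e'))
      · exact Or.inr (Or.inr (Or.inr (e'.trans (mul_assoc _ _ _).symm)))
  · rintro ⟨hd, hall⟩
    refine ⟨hd.1, line_of_fixed (F.π_D hd) fun l => ?_⟩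
    obtain ⟨c, hc, ec⟩ := S.ρ_surj _ (lP_mem l).1
    have hfix : S.ρ c (S.π (g * z * g⁻¹)) = S.π (g * z * g⁻¹) := by
      rw [F.root, ec]; exact (lP_mem l).2
    obtain ⟨c', hc', hcs, eρ⟩ := S.lift_fix hc F.s_mem F.root_ne hfix
    have e := S.ρ_π c' hc' d hd.1
    rw [eρ, ec] at e
    rcases hall c' hc' hcs with h | h | h | h <;> rw [h] at e
    · left; rw [← e, vec_add_self]
    · left; rw [← e, S.π_zmul hd.1, vec_add_self]
    · right; rw [← e, F.s_mul_π hd.1, add_assoc, vec_add_self, add_zero]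
    · right
      rw [← e, mul_assoc, S.π_zmul (mul_mem F.s_mem hd.1), F.s_mul_π hd.1, add_assoc,
        vec_add_self, add_zero]

/-- An element swapping the two involutions normalises the group of order eight. -/
theorem exists_swap : ∃ k ∈ Subgroup.normalizer (F.V : Set G),
    k * z * k⁻¹ = g * z * g⁻¹ ∧ k * (g * z * g⁻¹) * k⁻¹ = z ∧
      ∀ q ∈ Q, k * q * k⁻¹ ∈ Q.map (MulAut.conj g).toMonoidHom := by
  obtain ⟨k, hk1, hk2⟩ := F.pair.exists_swap
  set s := g * z * g⁻¹ with hs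
  have hkQ : ∀ q ∈ Q, k * q * k⁻¹ ∈ Q.map (MulAut.conj g).toMonoidHom := fun q hq => by
    have h1 : (g⁻¹ * k) * z = z * (g⁻¹ * k) := by
      calc g⁻¹ * k * z = g⁻¹ * (k * z * k⁻¹) * k := by group
        _ = z * (g⁻¹ * k) := by rw [hk1, hs]; group
    rw [H92.PairSetting.mem_R]
    have := S.norm _ h1 q hq
    convert this using 1
    group
  have hkR : ∀ r ∈ Q.map (MulAut.conj g).toMonoidHom, k * r * k⁻¹ ∈ Q := fun r hr => by
    have h1 : (k * g) * z = z * (k * g) := by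
      calc k * g * z = (k * s * k⁻¹) * (k * g) := by rw [hs]; group
        _ = z * (k * g) := by rw [hk2]
    have := S.norm _ h1 _ (H92.PairSetting.mem_R.1 hr)
    convert this using 1
    group
  refine ⟨k, mem_normalizer_of_map fun d hd => ?_, hk1, hk2, hkQ⟩
  obtain ⟨hdD, hall⟩ := F.V_char.1 hd
  refine F.V_char.2 ⟨⟨hkR d hdD.2, hkQ d hdD.1⟩, fun c hc hcs => ?_⟩
  rw [← hs] at hcs hall ⊢
  have hcz' : (k⁻¹ * c * k) * z = z * (k⁻¹ * c * k) := by
    calc k⁻¹ * c * k * z = k⁻¹ * (c * (k * z * k⁻¹)) * k := by group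
      _ = k⁻¹ * (s * c) * k := by rw [hk1, hcs]
      _ = k⁻¹ * ((k * z * k⁻¹) * c) * k := by rw [hk1]
      _ = z * (k⁻¹ * c * k) := by group
  have hcs' : (k⁻¹ * c * k) * s = s * (k⁻¹ * c * k) := by
    calc k⁻¹ * c * k * s = k⁻¹ * (c * (k * s * k⁻¹)) * k := by group
      _ = k⁻¹ * (z * c) * k := by rw [hk2, hc]
      _ = k⁻¹ * ((k * s * k⁻¹) * c) * k := by rw [hk2]
      _ = s * (k⁻¹ * c * k) := by group
  have e : c * (k * d * k⁻¹) * c⁻¹ = k * ((k⁻¹ * c * k) * d * (k⁻¹ * c * k)⁻¹) * k⁻¹ := by group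
  rcases hall _ hcz' hcs' with h | h | h | h <;> rw [e, h]
  · exact Or.inl rfl
  · refine Or.inr (Or.inr (Or.inl ?_))
    rw [← hk1]; group
  · refine Or.inr (Or.inl ?_)
    rw [← hk2]; group
  · refine Or.inr (Or.inr (Or.inr ?_))
    calc k * (z * s * d) * k⁻¹ = (k * z * k⁻¹) * (k * s * k⁻¹) * (k * d * k⁻¹) := by group
      _ = _ := by rw [hk1, hk2, hs, F.s_comm]

end Four

end Cfsg.Agent.H89.LFiFour
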