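import Cfsg.Agent.H89.LFiFour.Special
import Cfsg.Prelude.Def_CaseTheorems

/-!
The normaliser of the group of order eight modulo its largest normal 2-subgroup.
-/

set_option autoImplicit false
set_option linter.unusedSectionVars false
set_option linter.style.haveILetI false
set_option maxRecDepth 20000

namespace Cfsg.Agent.H89.LFiFour

open Cfsg Cfsg.Agent.Compute Cfsg.Agent.Unitary Cfsg.Agent.H41.SUSix Cfsg.Agent.H41.LFi Matrix

open Cfsg.Agent.H92.ExtraForm (zp zp_inj zp_add)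

attribute [local irreducible] mapsC sift invPerm H95.UFourThree.u43Chain

variable {G : Type*} [Group G] [Finite G] {z : G} {Q : Subgroup G}

theorem alt_six_center {π : ↥(alternatingGroup (Fin 6))} (h : ∀ σ, σ * π = π * σ) : π = 1 := by
  have := Subgroup.mem_center_iff.2 h
  rwa [alternatingGroup.center_eq_bot (by rw [Nat.card_fin]; norm_num), Subgroup.mem_bot] at this

namespace Four

variable {S : LSetup z Q} {g : G} (F : Four S g)
include F

theorem conj_mem_V {n x : G} (hn : n ∈ Subgroup.normalizer (F.V : Set G)) (hx : x ∈ F.V) :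
    n * x * n⁻¹ ∈ F.V :=
  (Subgroup.mem_normalizer_iff.1 hn x).1 hx

/-- Coordinates on the group of order eight. -/
noncomputable def kap (v : Fin 3 → ZMod 2) : ↥F.V :=
  ⟨zp z (v 0) * (zp (g * z * g⁻¹) (v 1) * zp F.w (v 2)),
    mul_mem (zp_mem F.z_mem_V _) (mul_mem (zp_mem F.s_mem_V _) (zp_mem F.w_mem _))⟩

theorem kap_bijective : Function.Bijective F.kap := by
  refine Function.Surjective.bijective_of_nat_card_le (fun ⟨q, hq⟩ => ?_) ?_
  · obtain ⟨a, b, c, rfl⟩ := F.V_cases hq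
    exact ⟨![a, b, c], rfl⟩
  · rw [F.card_V, Nat.card_fun, Nat.card_fin, Nat.card_zmod]; norm_num

theorem kap_add (u v : Fin 3 → ZMod 2) : F.kap (u + v) = F.kap u * F.kap v := by
  refine Subtype.ext ?_
  have hz : ∀ {x : G}, x ∈ F.V → ∀ a b, zp x (a + b) = zp x a * zp x b := fun hx =>
    zp_add (F.V_sq hx)
  show zp z ((u + v) 0) * (zp (g * z * g⁻¹) ((u + v) 1) * zp F.w ((u + v) 2)) =
    zp z (u 0) * (zp (g * z * g⁻¹) (u 1) * zp F.w (u 2)) *
      (zp z (v 0) * (zp (g * z * g⁻¹) (v 1) * zp F.w (v 2)))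
  rw [Pi.add_apply, Pi.add_apply, Pi.add_apply, hz F.z_mem_V, hz F.s_mem_V, hz F.w_mem]
  have hm := fun {a b : G} (ha : a ∈ F.V) (hb : b ∈ F.V) => (F.V_comm ha hb : Commute a b)
  have z' := zp_mem F.z_mem_V
  have s' := zp_mem F.s_mem_V
  have w' := zp_mem F.w_mem
  rw [Commute.mul_mul_mul_comm (hm (mul_mem (s' (u 1)) (w' (u 2))) (z' (v 0))),
    Commute.mul_mul_mul_comm (hm (w' (u 2)) (s' (v 1)))]

/-- The coordinates as an equivalence. -/
noncomputable def coord : (Fin 3 → ZMod 2) ≃ ↥F.V := Equiv.ofBijective _ F.kap_bijective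

theorem coord_add (u v : Fin 3 → ZMod 2) : F.coord (u + v) = F.coord u * F.coord v :=
  F.kap_add u v

theorem coord_zero : F.coord 0 = 1 := by
  have h := F.coord_add 0 0
  rw [add_zero] at h
  exact left_eq_mul.1 h

theorem coord_symm_mul (x y : ↥F.V) : F.coord.symm (x * y) = F.coord.symm x + F.coord.symm y := by
  rw [Equiv.symm_apply_eq, F.coord_add, Equiv.apply_symm_apply, Equiv.apply_symm_apply]

theorem coord_single :
    ((F.coord (Pi.single 0 1) : ↥F.V) : G) = z ∧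
      ((F.coord (Pi.single 1 1) : ↥F.V) : G) = g * z * g⁻¹ ∧
      ((F.coord (Pi.single 2 1) : ↥F.V) : G) = F.w := by
  refine ⟨?_, ?_, ?_⟩ <;>
  · show zp z _ * (zp (g * z * g⁻¹) _ * zp F.w _) = _
    simp [zp, Pi.single_apply]

/-- The conjugation of the group of order eight by an element of the normaliser. -/
noncomputable def cj (n : ↥(Subgroup.normalizer (F.V : Set G))) (x : ↥F.V) : ↥F.V :=
  ⟨n * x * (n : G)⁻¹, F.conj_mem_V n.2 x.2⟩

theorem cj_mul (m n : ↥(Subgroup.normalizer (F.V : Set G))) (x : ↥F.V) :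
    F.cj (m * n) x = F.cj m (F.cj n x) := by
  refine Subtype.ext ?_
  show (m * n : G) * x * (m * n : G)⁻¹ = m * (n * x * (n : G)⁻¹) * (m : G)⁻¹
  group

theorem cj_one (x : ↥F.V) : F.cj 1 x = x := Subtype.ext (by simp [cj])

theorem cj_add (n : ↥(Subgroup.normalizer (F.V : Set G))) (x y : ↥F.V) :
    F.cj n (x * y) = F.cj n x * F.cj n y := by
  refine Subtype.ext ?_
  show (n : G) * (x * y) * (n : G)⁻¹ = n * x * (n : G)⁻¹ * (n * y * (n : G)⁻¹)
  group

/-- The linear map induced on the coordinates. -/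
noncomputable def lmap (n : ↥(Subgroup.normalizer (F.V : Set G))) :
    (Fin 3 → ZMod 2) →ₗ[ZMod 2] (Fin 3 → ZMod 2) :=
  (AddMonoidHom.mk' (fun u => F.coord.symm (F.cj n (F.coord u)))
    (fun u v => by rw [F.coord_add, F.cj_add, F.coord_symm_mul])).toZModLinearMap 2

theorem coord_lmap (n : ↥(Subgroup.normalizer (F.V : Set G))) (u : Fin 3 → ZMod 2) :
    ((F.coord (F.lmap n u) : ↥F.V) : G) = n * (F.coord u : G) * (n : G)⁻¹ :=
  congrArg Subtype.val (F.coord.apply_symm_apply _)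

theorem lmap_mul (m n : ↥(Subgroup.normalizer (F.V : Set G))) :
    F.lmap (m * n) = (F.lmap m).comp (F.lmap n) := by
  refine LinearMap.ext fun u => ?_
  show F.coord.symm (F.cj (m * n) (F.coord u)) =
    F.coord.symm (F.cj m (F.coord (F.coord.symm (F.cj n (F.coord u)))))
  rw [Equiv.apply_symm_apply, F.cj_mul]

theorem lmap_one : F.lmap 1 = LinearMap.id := by
  refine LinearMap.ext fun u => ?_
  show F.coord.symm (F.cj 1 (F.coord u)) = u
  rw [F.cj_one, Equiv.symm_apply_apply]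

theorem lmap_eq_id_iff {n : ↥(Subgroup.normalizer (F.V : Set G))} :
    F.lmap n = LinearMap.id ↔ (n : G) ∈ F.C := by
  constructor
  · intro h q hq
    have e := F.coord_lmap n (F.coord.symm ⟨q, hq⟩)
    rw [h, LinearMap.id_apply, Equiv.apply_symm_apply] at e
    exact eq_mul_inv_iff_mul_eq.1 e
  · intro h
    refine LinearMap.ext fun u => F.coord.injective (Subtype.ext ?_)
    rw [F.coord_lmap, F.V_central (F.coord u).2 h]
    rfl

theorem det_lmap (n : ↥(Subgroup.normalizer (F.V : Set G))) :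
    (LinearMap.toMatrix' (F.lmap n)).det = 1 := by
  have h : (LinearMap.toMatrix' (F.lmap n)).det *
      (LinearMap.toMatrix' (F.lmap n⁻¹)).det = 1 := by
    rw [← Matrix.det_mul, ← LinearMap.toMatrix'_comp, ← F.lmap_mul, mul_inv_cancel, F.lmap_one,
      LinearMap.toMatrix'_id, Matrix.det_one]
  exact (by decide : ∀ a b : ZMod 2, a * b = 1 → a = 1) _ _ h

/-- The action on the group of order eight. -/
noncomputable def phi :
    ↥(Subgroup.normalizer (F.V : Set G)) →* Matrix.SpecialLinearGroup (Fin 3) (ZMod 2) :=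
  MonoidHom.mk' (fun n => ⟨LinearMap.toMatrix' (F.lmap n), F.det_lmap n⟩) fun m n => Subtype.ext (by
    show LinearMap.toMatrix' (F.lmap (m * n)) =
      LinearMap.toMatrix' (F.lmap m) * LinearMap.toMatrix' (F.lmap n)
    rw [F.lmap_mul, LinearMap.toMatrix'_comp])

theorem phi_eq_one_iff {n : ↥(Subgroup.normalizer (F.V : Set G))} :
    F.phi n = 1 ↔ (n : G) ∈ F.C := by
  rw [← F.lmap_eq_id_iff]
  constructor
  · intro h
    exact LinearMap.toMatrix'.injective
      ((congrArg Subtype.val h).trans LinearMap.toMatrix'_id.symm)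
  · intro h
    refine Subtype.ext ?_
    show LinearMap.toMatrix' (F.lmap n) = 1
    rw [h, LinearMap.toMatrix'_id]

theorem exists_phi (A : Matrix.SpecialLinearGroup (Fin 3) (ZMod 2)) :
    ∃ n : ↥(Subgroup.normalizer (F.V : Set G)), (n : G) ∈ F.L ∧ F.phi n = A := by
  set f : (Fin 3 → ZMod 2) →ₗ[ZMod 2] (Fin 3 → ZMod 2) :=
    Matrix.toLin' (A : Matrix (Fin 3) (Fin 3) (ZMod 2)) with hf
  have hinv : ∀ u, Matrix.toLin' ((A⁻¹ : Matrix.SpecialLinearGroup (Fin 3) (ZMod 2)) :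
      Matrix (Fin 3) (Fin 3) (ZMod 2)) (f u) = u := fun u => by
    rw [hf, ← LinearMap.comp_apply, ← Matrix.toLin'_mul, ← Matrix.SpecialLinearGroup.coe_mul,
      inv_mul_cancel, Matrix.SpecialLinearGroup.coe_one, Matrix.toLin'_one]
    rfl
  have finj : Function.Injective f := Function.LeftInverse.injective hinv
  set h : (Fin 3 → ZMod 2) → G := fun u => ((F.coord (f u) : ↥F.V) : G) with hh
  have hinj : Function.Injective h :=
    Subtype.val_injective.comp (F.coord.injective.comp finj)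
  have h0 : h 0 = 1 := by
    show ((F.coord (f 0) : ↥F.V) : G) = 1
    rw [map_zero, F.coord_zero]
    rfl
  have hadd : ∀ u v, h (u + v) = h u * h v := fun u v => by
    show ((F.coord (f (u + v)) : ↥F.V) : G) = _
    rw [map_add, F.coord_add]
    rfl
  have hmem : ∀ u, h u ∈ F.V := fun u => (F.coord (f u)).2
  have ne : ∀ {u v : Fin 3 → ZMod 2}, u ≠ v → h u ≠ h v := fun huv e => huv (hinj e)
  obtain ⟨l, hl, e0, e1, e2⟩ := F.exists_frame (hmem (Pi.single 0 1)) (hmem (Pi.single 1 1))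
    (hmem (Pi.single 2 1)) (h0 ▸ ne (by decide)) (h0 ▸ ne (by decide)) (ne (by decide))
    (h0 ▸ ne (by decide)) (ne (by decide)) (ne (by decide))
    (hadd (Pi.single 0 1) (Pi.single 1 1) ▸ ne (by decide))
  refine ⟨⟨l, F.L_le hl⟩, hl, Subtype.ext ?_⟩
  show LinearMap.toMatrix' (F.lmap ⟨l, F.L_le hl⟩) = (A : Matrix (Fin 3) (Fin 3) (ZMod 2))
  rw [← LinearMap.toMatrix'_toLin' (A : Matrix (Fin 3) (Fin 3) (ZMod 2)), ← hf]
  refine congrArg _ ((Pi.basisFun (ZMod 2) (Fin 3)).ext fun j => F.coord.injective (Subtype.ext ?_))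
  rw [F.coord_lmap, Pi.basisFun_apply]
  show l * _ * l⁻¹ = h (Pi.single j 1)
  obtain ⟨c0, c1, c2⟩ := F.coord_single
  fin_cases j
  · exact (congrArg (l * · * l⁻¹) c0).trans e0
  · exact (congrArg (l * · * l⁻¹) c1).trans e1
  · exact (congrArg (l * · * l⁻¹) c2).trans e2

theorem psiC_eq_of_mem_R {x y : ↥F.C} (h : (x : G) * (y : G)⁻¹ ∈ F.R) : F.psiC x = F.psiC y := by
  obtain ⟨c, hc, e⟩ := h
  have : x * y⁻¹ = c := Subtype.ext e.symm
  rw [← mul_inv_eq_one, ← map_inv, ← map_mul, this]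
  exact hc

theorem psiC_ker_iff {x : ↥F.C} : F.psiC x = 1 ↔ (x : G) ∈ F.R := by
  constructor
  · intro h; exact ⟨x, h, rfl⟩
  · rintro ⟨c, hc, e⟩
    exact (Subtype.ext e : c = x) ▸ hc

/-- Conjugation of the centraliser by an element of the normaliser. -/
noncomputable def cC (n : ↥(Subgroup.normalizer (F.V : Set G))) (c : ↥F.C) : ↥F.C :=
  ⟨n * c * (n : G)⁻¹, F.C_conj n.2 c.2⟩

theorem exists_chi (n : ↥(Subgroup.normalizer (F.V : Set G))) :
    ∃ π : ↥(alternatingGroup (Fin 6)), ∀ c, F.psiC (F.cC n c) = π * F.psiC c * π⁻¹ := by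
  obtain ⟨l, hl, hc⟩ := F.normalizer_split n.2
  refine ⟨F.psiC ⟨_, hc⟩, fun c => ?_⟩
  rw [← map_inv, ← map_mul, ← map_mul]
  refine F.psiC_eq_of_mem_R ?_
  show (n : G) * c * (n : G)⁻¹ *
    (l⁻¹ * (n : G) * (c : G) * (l⁻¹ * (n : G))⁻¹)⁻¹ ∈ F.R
  have := hl.2 _ (⟨_, hc⟩ * c * ⟨_, hc⟩⁻¹ : ↥F.C).2
  simp only [Subgroup.coe_mul, Subgroup.coe_inv] at this
  convert this using 1
  group

/-- The action on the six of an element of the normaliser. -/
noncomputable def chiFun (n : ↥(Subgroup.normalizer (F.V : Set G))) : ↥(alternatingGroup (Fin 6)) :=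
  Classical.choose (F.exists_chi n)

theorem chiFun_spec (n : ↥(Subgroup.normalizer (F.V : Set G))) (c : ↥F.C) :
    F.psiC (F.cC n c) = F.chiFun n * F.psiC c * (F.chiFun n)⁻¹ :=
  Classical.choose_spec (F.exists_chi n) c

theorem chiFun_unique {n : ↥(Subgroup.normalizer (F.V : Set G))}
    {π : ↥(alternatingGroup (Fin 6))} (h : ∀ c, F.psiC (F.cC n c) = π * F.psiC c * π⁻¹) :
    F.chiFun n = π := by
  refine inv_mul_eq_one.1 (alt_six_center fun σ => ?_)
  obtain ⟨c, rfl⟩ := F.psiC_surjective σ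
  have e := (F.chiFun_spec n c).symm.trans (h c)
  calc F.psiC c * ((F.chiFun n)⁻¹ * π)
      = (F.chiFun n)⁻¹ * (F.chiFun n * F.psiC c * (F.chiFun n)⁻¹) * π := by group
    _ = _ := by rw [e]; group

/-- The action on the six. -/
noncomputable def chi : ↥(Subgroup.normalizer (F.V : Set G)) →* ↥(alternatingGroup (Fin 6)) :=
  MonoidHom.mk' F.chiFun fun m n => F.chiFun_unique fun c => by
    have e : F.cC (m * n) c = F.cC m (F.cC n c) := Subtype.ext (by
      show (m * n : G) * c * (m * n : G)⁻¹ = m * (n * c * (n : G)⁻¹) * (m : G)⁻¹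
      group)
    rw [e, F.chiFun_spec, F.chiFun_spec]
    group

theorem chi_C (c : ↥F.C) :
    F.chi ⟨c, F.C_le_normalizer c.2⟩ = F.psiC c :=
  F.chiFun_unique fun d => by
    rw [← map_inv, ← map_mul, ← map_mul]
    rfl

theorem chi_L {n : ↥(Subgroup.normalizer (F.V : Set G))} (h : (n : G) ∈ F.L) : F.chi n = 1 :=
  F.chiFun_unique fun c => by
    rw [one_mul, inv_one, mul_one]
    exact F.psiC_eq_of_mem_R (h.2 c c.2)

theorem prod_surjective : Function.Surjective (F.phi.prod F.chi) := by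
  rintro ⟨A, π⟩
  obtain ⟨n, hn, hA⟩ := F.exists_phi A
  obtain ⟨c, hc⟩ := F.psiC_surjective π
  refine ⟨n * ⟨c, F.C_le_normalizer c.2⟩, ?_⟩
  rw [MonoidHom.prod_apply, map_mul, map_mul, hA, F.phi_eq_one_iff.2 c.2, F.chi_L hn, F.chi_C, hc,
    mul_one, one_mul]

theorem prod_ker :
    (F.phi.prod F.chi).ker = F.R.subgroupOf (Subgroup.normalizer (F.V : Set G)) := by
  ext n
  rw [MonoidHom.mem_ker, MonoidHom.prod_apply, Prod.mk_eq_one, F.phi_eq_one_iff,
    Subgroup.mem_subgroupOf]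
  constructor
  · rintro ⟨hc, hx⟩
    rw [show n = ⟨((⟨n, hc⟩ : ↥F.C) : G), F.C_le_normalizer hc⟩ from rfl, F.chi_C] at hx
    exact F.psiC_ker_iff.1 hx
  · intro hr
    refine ⟨F.R_le_C hr, ?_⟩
    rw [show n = ⟨((⟨n, F.R_le_C hr⟩ : ↥F.C) : G), F.C_le_normalizer (F.R_le_C hr)⟩ from rfl,
      F.chi_C]
    exact F.psiC_ker_iff.2 hr

/-- A normal 2-subgroup of the normaliser lies in the kernel. -/
theorem normal_two_le {P : Subgroup ↥(Subgroup.normalizer (F.V : Set G))} (hn : P.Normal)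
    (hp : IsPGroup 2 P) : P ≤ F.R.subgroupOf (Subgroup.normalizer (F.V : Set G)) := by
  haveI : Fact (Nat.Prime 2) := ⟨Nat.prime_two⟩
  let act : ↥(Subgroup.normalizer (F.V : Set G)) →* Equiv.Perm ↥F.V :=
    { toFun := fun n =>
        { toFun := F.cj n
          invFun := F.cj n⁻¹
          left_inv := fun x => by rw [← F.cj_mul, inv_mul_cancel, F.cj_one]
          right_inv := fun x => by rw [← F.cj_mul, mul_inv_cancel, F.cj_one] }
      map_one' := Equiv.ext fun x => F.cj_one x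
      map_mul' := fun m n => Equiv.ext fun x => F.cj_mul m n x }
  letI : MulAction ↥P ↥F.V := MulAction.compHom ↥F.V (act.comp P.subtype)
  have h1 : (1 : ↥F.V) ∈ MulAction.fixedPoints ↥P ↥F.V := fun p =>
    Subtype.ext (show p.1.1 * 1 * p.1.1⁻¹ = 1 by group)
  obtain ⟨v, hv, hv1⟩ := hp.exists_fixed_point_of_prime_dvd_card_of_fixed_point ↥F.V
    (by rw [F.card_V]; norm_num) h1
  have hfix : ∀ p ∈ P, (p : G) * v * (p : G)⁻¹ = (v : G) := fun p hp' =>
    congrArg Subtype.val (hv ⟨p, hp'⟩)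
  have hv' : (v : G) ≠ 1 := fun e => hv1 (Subtype.ext e.symm)
  have hC : ∀ p ∈ P, (p : G) ∈ F.C := by
    intro p hp' t ht
    by_cases ht1 : t = 1
    · rw [ht1, one_mul, mul_one]
    obtain ⟨l1, hl1, e1⟩ := F.exists_move_z v.2 hv'
    obtain ⟨l2, hl2, e2⟩ := F.exists_move_z ht ht1
    set n : ↥(Subgroup.normalizer (F.V : Set G)) :=
      ⟨l2 * l1⁻¹, mul_mem (F.L_le hl2) (inv_mem (F.L_le hl1))⟩ with hn'
    have e := hfix _ (hn.conj_mem p hp' n⁻¹)
    have et : t = (n : G) * v * (n : G)⁻¹ := by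
      rw [← e1, ← e2]
      show _ = l2 * l1⁻¹ * (l1 * z * l1⁻¹) * (l2 * l1⁻¹)⁻¹
      group
    simp only [Subgroup.coe_mul, Subgroup.coe_inv, inv_inv] at e
    refine (mul_inv_eq_iff_eq_mul.1 ?_).symm
    calc (p : G) * t * (p : G)⁻¹
        = n * (((n : G)⁻¹ * p * n) * v * ((n : G)⁻¹ * p * n)⁻¹) * (n : G)⁻¹ := by rw [et]; group
      _ = t := by rw [e, et]
  intro p hp'
  refine F.two_sub_le (P := P.map (Subgroup.normalizer (F.V : Set G)).subtype) ?_ ?_ (hp.map _)
    ⟨p, hp', rfl⟩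
  · rintro _ ⟨q, hq, rfl⟩
    exact hC q hq
  · rintro c hc _ ⟨q, hq, rfl⟩
    exact ⟨⟨c, F.C_le_normalizer hc⟩ * q * ⟨c, F.C_le_normalizer hc⟩⁻¹, hn.conj_mem q hq _, rfl⟩

theorem R_le_normalizer : F.R ≤ Subgroup.normalizer (F.V : Set G) :=
  F.R_le_C.trans F.C_le_normalizer

theorem pCore_eq : (Cfsg.pCore 2 ↥(Subgroup.normalizer (F.V : Set G))).map
    (Subgroup.normalizer (F.V : Set G)).subtype = F.R := by
  have h : Cfsg.pCore 2 ↥(Subgroup.normalizer (F.V : Set G)) =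
      F.R.subgroupOf (Subgroup.normalizer (F.V : Set G)) := by
    refine le_antisymm (sSup_le fun P hP => F.normal_two_le hP.1 hP.2) (le_sSup ⟨?_, ?_⟩)
    · rw [← F.prod_ker]
      exact MonoidHom.normal_ker _
    · exact F.R_pgroup.of_equiv (Subgroup.subgroupOfEquivOfLe F.R_le_normalizer).symm
  rw [h, Subgroup.map_subgroupOf_eq_of_le F.R_le_normalizer]

theorem quotient_equiv : ∃ _ : (F.R.subgroupOf (Subgroup.normalizer (F.V : Set G))).Normal,
    Nonempty (↥(Subgroup.normalizer (F.V : Set G)) ⧸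
      F.R.subgroupOf (Subgroup.normalizer (F.V : Set G)) ≃*
        Matrix.SpecialLinearGroup (Fin 3) (ZMod 2) × ↥(alternatingGroup (Fin 6))) := by
  haveI hn : (F.R.subgroupOf (Subgroup.normalizer (F.V : Set G))).Normal :=
    F.prod_ker ▸ MonoidHom.normal_ker _
  exact ⟨hn, ⟨(QuotientGroup.quotientMulEquivOfEq F.prod_ker.symm).trans
    (QuotientGroup.quotientKerEquivOfSurjective _ F.prod_surjective)⟩⟩

end Four

end Cfsg.Agent.H89.LFiFour
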