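import Cfsg.Agent.H89.LFiFour.Trans
import Cfsg.Agent.PGroups.Basic

/-!
The kernel of the action on the six is special with the group of order eight as centre.
-/

set_option autoImplicit false
set_option linter.unusedSectionVars false
set_option linter.style.haveILetI false
set_option maxRecDepth 20000

namespace Cfsg.Agent.H89.LFiFour

open Cfsg Cfsg.Agent.Compute Cfsg.Agent.Unitary Cfsg.Agent.H41.SUSix Cfsg.Agent.H41.LFi Matrix

open Cfsg.Agent.H92.ExtraForm (zp zp_inj zp_add)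
open scoped commutatorElement

attribute [local irreducible] mapsC sift invPerm H95.UFourThree.u43Chain

variable {G : Type*} [Group G] [Finite G] {z : G} {Q : Subgroup G}

theorem zp_mem {H : Subgroup G} {x : G} (hx : x ∈ H) (a : ZMod 2) : zp x a ∈ H := by
  unfold zp
  split_ifs
  · exact one_mem H
  · exact hx

theorem conj_zp (n x : G) (a : ZMod 2) : n * zp x a * n⁻¹ = zp (n * x * n⁻¹) a := by
  unfold zp
  split_ifs
  · group
  · rfl

namespace Four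

variable {S : LSetup z Q} {g : G} (F : Four S g)
include F

theorem V_central {v c : G} (hv : v ∈ F.V) (hc : c ∈ F.C) : c * v * c⁻¹ = v :=
  mul_inv_eq_iff_eq_mul.2 (hc v hv).symm

/-- The kernel is the product of its intersections with the two cores. -/
theorem R_split {r : G} (hr : r ∈ F.R) : ∃ a b, a ∈ Q ∧ a ∈ F.R ∧
    b ∈ Q.map (MulAut.conj g).toMonoidHom ∧ b ∈ F.R ∧ r = a * b := by
  obtain ⟨k, hk, -, -, hkQ⟩ := F.exists_swap
  have hBR : ∀ b ∈ (Q ⊓ F.C).map (MulAut.conj k).toMonoidHom,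
      b ∈ F.R ∧ b ∈ Q.map (MulAut.conj g).toMonoidHom := by
    rintro _ ⟨q, ⟨hqQ, hqC⟩, rfl⟩
    exact ⟨F.R_conj hk (F.CQ_le_R hqQ hqC), hkQ q hqQ⟩
  have hcB : Nat.card ↥((Q ⊓ F.C).map (MulAut.conj k).toMonoidHom) = 2 ^ 11 :=
    (Nat.card_congr (Subgroup.equivMapOfInjective _ _ (MulAut.conj k).injective).toEquiv).symm.trans
      F.card_CQ
  let f : ↥((Q ⊓ F.C).map (MulAut.conj k).toMonoidHom) →* ↥Agrp := MonoidHom.mk'
    (fun b => ⟨S.ρ b, (F.mem_R.1 (hBR b b.2).1).2⟩)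
    fun a b => Subtype.ext (S.ρ_mul a b (F.C_z (F.R_le_C (hBR a a.2).1))
      (F.C_z (F.R_le_C (hBR b b.2).1)))
  have hker : Nat.card f.ker ≤ 2 ^ 7 := by
    rw [← F.shape.card_meet]
    refine Nat.card_le_card_of_injective (fun x => (⟨x.1.1,
      (S.ρ_ker _ (F.C_z (F.R_le_C (hBR _ x.1.2).1))).1 (congrArg Subtype.val (MonoidHom.mem_ker.1 x.2)),
      (hBR _ x.1.2).2⟩ : ↥(LSetup.meetD Q g))) fun x y e => ?_
    exact Subtype.ext (Subtype.ext (congrArg Subtype.val e :))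
  have hsurj : Function.Surjective f := by
    have h := Subgroup.card_mul_index f.ker
    rw [Subgroup.index_ker, hcB] at h
    have h16 : 16 ≤ Nat.card f.range := by
      have := Nat.mul_le_mul_right (Nat.card f.range) hker
      rw [h] at this
      omega
    exact MonoidHom.range_eq_top.1 (Subgroup.eq_of_le_of_card_ge le_top
      (by rwa [Subgroup.card_top, card_A]))
  obtain ⟨hrC, hrA⟩ := F.mem_R.1 hr
  obtain ⟨⟨b, hb⟩, e⟩ := hsurj ⟨S.ρ r, hrA⟩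
  have e' : S.ρ b = S.ρ r := congrArg Subtype.val e
  obtain ⟨hbR, hbg⟩ := hBR b hb
  have hbz := F.C_z (F.R_le_C hbR)
  have hrz := F.C_z hrC
  refine ⟨r * b⁻¹, b, (S.ρ_ker _ (S.z_comm_mul hrz (S.z_comm_inv hbz))).1 ?_,
    mul_mem hr (inv_mem hbR), hbg, hbR, (inv_mul_cancel_right r b).symm⟩
  rw [S.ρ_mul _ _ hrz (S.z_comm_inv hbz), S.ρ_inv hbz, e', mul_inv_cancel]

theorem comm_core {r a : G} (hr : r ∈ F.R) (ha : a ∈ Q) (haR : a ∈ F.R) :
    r * a * r⁻¹ * a⁻¹ ∈ F.V := by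
  obtain ⟨hrC, hrA⟩ := F.mem_R.1 hr
  have hrz := F.C_z hrC
  have hm := S.norm r hrz a ha
  refine ⟨mul_mem hm (inv_mem ha), ?_⟩
  rw [S.π_mul _ hm _ (inv_mem ha), S.π_inv ha, S.ρ_π r hrz a ha]
  exact A_perp hrA ((F.mem_CQ ha).1 (F.R_le_C haR))

theorem comm_conj {b b' : G} (hb : b ∈ Q.map (MulAut.conj g).toMonoidHom)
    (hb' : b' ∈ Q.map (MulAut.conj g).toMonoidHom) : b * b' * b⁻¹ * b'⁻¹ ∈ F.V := by
  rcases F.pair.R_commutator hb hb' with e | e <;> rw [e]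
  · exact one_mem _
  · exact F.s_mem_V

/-- The commutators of the kernel lie in the group of order eight. -/
theorem comm_R {r t : G} (hr : r ∈ F.R) (ht : t ∈ F.R) : r * t * r⁻¹ * t⁻¹ ∈ F.V := by
  obtain ⟨a, b, ha, haR, hb, hbR, rfl⟩ := F.R_split hr
  obtain ⟨a', b', ha', haR', hb', hbR', rfl⟩ := F.R_split ht
  have e1 : b * (a' * b') * b⁻¹ * (a' * b')⁻¹ ∈ F.V := by
    rw [show b * (a' * b') * b⁻¹ * (a' * b')⁻¹ =
      b * a' * b⁻¹ * a'⁻¹ * (a' * (b * b' * b⁻¹ * b'⁻¹) * a'⁻¹) by group]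
    refine mul_mem (F.comm_core hbR ha' haR') ?_
    rw [F.V_central (F.comm_conj hb hb') (F.R_le_C haR')]
    exact F.comm_conj hb hb'
  have e2 : a * (a' * b') * a⁻¹ * (a' * b')⁻¹ ∈ F.V := by
    have h : (a' * b') * a * (a' * b')⁻¹ * a⁻¹ ∈ F.V :=
      F.comm_core (mul_mem haR' hbR') ha haR
    rw [show a * (a' * b') * a⁻¹ * (a' * b')⁻¹ = ((a' * b') * a * (a' * b')⁻¹ * a⁻¹)⁻¹ by group]
    exact inv_mem h
  rw [show a * b * (a' * b') * (a * b)⁻¹ * (a' * b')⁻¹ =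
    a * (b * (a' * b') * b⁻¹ * (a' * b')⁻¹) * a⁻¹ * (a * (a' * b') * a⁻¹ * (a' * b')⁻¹) by group]
  refine mul_mem ?_ e2
  rw [F.V_central e1 (F.R_le_C haR)]
  exact e1

theorem sq_R {r : G} (hr : r ∈ F.R) : r * r ∈ F.V := by
  obtain ⟨a, b, ha, haR, hb, hbR, rfl⟩ := F.R_split hr
  have hc := F.comm_core hbR ha haR
  have hcomm : a * (b * a * b⁻¹ * a⁻¹) = b * a * b⁻¹ * a⁻¹ * a :=
    ((F.R_le_C haR) _ hc).symm
  rw [show a * b * (a * b) = a * (b * a * b⁻¹ * a⁻¹) * a * (b * b) by group, hcomm,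
    mul_assoc _ a a]
  refine mul_mem (mul_mem hc ?_) ?_
  · rw [S.sq a ha]
    exact zp_mem F.z_mem_V _
  · rw [show b * b = g * (g⁻¹ * b * g * (g⁻¹ * b * g)) * g⁻¹ by group,
      S.sq _ (H92.PairSetting.mem_R.1 hb), conj_zp]
    exact zp_mem F.s_mem_V _

theorem centre_le {c : G} (hc : c ∈ F.R) (h : ∀ r ∈ F.R, r * c = c * r) : c ∈ F.V := by
  obtain ⟨hcC, hcA⟩ := F.mem_R.1 hc
  have hcz := F.C_z hcC
  have hR : ∀ {a}, a ∈ Q → Perp (S.π a) → a ∈ F.R := fun ha hp =>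
    F.CQ_le_R ha ((F.mem_CQ ha).2 hp)
  have h1 : S.ρ c = 1 := A_moves hcA fun v hv => by
    obtain ⟨a, ha, rfl⟩ := S.π_surj v
    rw [← S.ρ_π c hcz a ha, mul_inv_eq_iff_eq_mul.2 (h a (hR ha hv)).symm]
  have hcQ := (S.ρ_ker c hcz).1 h1
  refine ⟨hcQ, line_of_perp fun w hw => ?_⟩
  obtain ⟨a, ha, rfl⟩ := S.π_surj w
  exact (S.comm_iff hcQ ha).1 (h a (hR ha hw)).symm

theorem z_comm_R : ∃ a ∈ F.R, ∃ b ∈ F.R, a * b * a⁻¹ * b⁻¹ = z := by
  obtain ⟨v, w, hv, hw, hvw⟩ := exists_noncomm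
  obtain ⟨a, ha, rfl⟩ := S.π_surj v
  obtain ⟨b, hb, rfl⟩ := S.π_surj w
  refine ⟨a, F.CQ_le_R ha ((F.mem_CQ ha).2 hv), b, F.CQ_le_R hb ((F.mem_CQ hb).2 hw), ?_⟩
  rw [F.pair.comm_eq ha hb fun e => ?_, mul_inv_cancel_right]
  rw [(S.comm_iff ha hb).1 e] at hvw
  exact zero_ne_one hvw

theorem V_commutator {t : G} (ht : t ∈ F.V) (h1 : t ≠ 1) :
    ∃ a ∈ F.R, ∃ b ∈ F.R, a * b * a⁻¹ * b⁻¹ = t := by
  obtain ⟨a, ha, b, hb, e⟩ := F.z_comm_R
  obtain ⟨l, hl, rfl⟩ := F.exists_move_z ht h1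
  refine ⟨l * a * l⁻¹, F.R_conj (F.L_le hl) ha, l * b * l⁻¹, F.R_conj (F.L_le hl) hb, ?_⟩
  rw [← e]
  group

theorem mem_center_R {x : ↥F.R} : x ∈ Subgroup.center ↥F.R ↔ (x : G) ∈ F.V := by
  rw [Subgroup.mem_center_iff]
  constructor
  · intro h
    exact F.centre_le x.2 fun r hr => congrArg Subtype.val (h ⟨r, hr⟩)
  · intro h y
    exact Subtype.ext ((F.R_le_C y.2) _ h).symm

theorem center_map : (Subgroup.center ↥F.R).map F.R.subtype = F.V := by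
  ext x
  constructor
  · rintro ⟨y, hy, rfl⟩
    exact F.mem_center_R.1 hy
  · intro hx
    exact ⟨⟨x, F.V_le_R hx⟩, F.mem_center_R.2 hx, rfl⟩

theorem isSpecial : Cfsg.IsSpecial 2 ↥F.R := by
  haveI : Fact (Nat.Prime 2) := ⟨Nat.prime_two⟩
  have hc : commutator ↥F.R ≤ Subgroup.center ↥F.R := by
    rw [commutator_def, Subgroup.commutator_le]
    intro a _ b _
    rw [F.mem_center_R, commutatorElement_def]
    exact F.comm_R a.2 b.2
  have hc' : Subgroup.center ↥F.R ≤ commutator ↥F.R := by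
    intro x hx
    by_cases h1 : x = 1
    · exact h1 ▸ one_mem _
    obtain ⟨a, ha, b, hb, e⟩ := F.V_commutator (F.mem_center_R.1 hx)
      fun e => h1 (Subtype.ext e)
    have : ⁅(⟨a, ha⟩ : ↥F.R), ⟨b, hb⟩⁆ = x := Subtype.ext e
    rw [← this, commutator_def]
    exact Subgroup.commutator_mem_commutator (Subgroup.mem_top _) (Subgroup.mem_top _)
  have he := le_antisymm hc hc'
  refine ⟨F.R_pgroup, le_antisymm ?_ (he ▸ PGroups.commutator_le_frattini F.R_pgroup), he⟩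
  refine PGroups.frattini_le_of_commutator_le (p := 2) _ hc fun x => ?_
  rw [F.mem_center_R, SubgroupClass.coe_pow, pow_two]
  exact F.sq_R x.2

end Four

end Cfsg.Agent.H89.LFiFour
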