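import Cfsg.Agent.H89.LFiFour.Cent

/-!
The normal subgroup of the normaliser inducing every automorphism of the group of order eight and
commuting with its centraliser modulo the largest normal 2-subgroup.
-/

set_option autoImplicit false
set_option linter.unusedSectionVars false
set_option linter.style.haveILetI false
set_option maxRecDepth 20000

namespace Cfsg.Agent.H89.LFiFour

open Cfsg Cfsg.Agent.Compute Cfsg.Agent.Unitary Cfsg.Agent.H41.SUSix Cfsg.Agent.H41.LFi Matrix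

open Cfsg.Agent.H92.ExtraForm (zp zp_inj zp_add)

attribute [local irreducible] mapsC sift invPerm H95.UFourThree.u43Chain

variable {G : Type*} [Group G] [Finite G] {z : G} {Q : Subgroup G}

namespace Four

variable {S : LSetup z Q} {g : G} (F : Four S g)
include F

/-- The elements of the normaliser centralising the centraliser modulo the 2-subgroup. -/
noncomputable def L : Subgroup G where
  carrier := {l | l ∈ Subgroup.normalizer (F.V : Set G) ∧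
    ∀ c ∈ F.C, l * c * l⁻¹ * c⁻¹ ∈ F.R}
  one_mem' := ⟨one_mem _, fun c _ => by simp⟩
  mul_mem' := by
    rintro a b ⟨ha, ha'⟩ ⟨hb, hb'⟩
    refine ⟨mul_mem ha hb, fun c hc => ?_⟩
    have e : a * b * c * (a * b)⁻¹ * c⁻¹ =
        a * (b * c * b⁻¹ * c⁻¹) * a⁻¹ * (a * c * a⁻¹ * c⁻¹) := by group
    rw [e]
    exact mul_mem (F.R_conj ha (hb' c hc)) (ha' c hc)
  inv_mem' := by
    rintro a ⟨ha, ha'⟩
    refine ⟨inv_mem ha, fun c hc => ?_⟩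
    have e : a⁻¹ * c * a⁻¹⁻¹ * c⁻¹ = a⁻¹ * (a * c * a⁻¹ * c⁻¹)⁻¹ * a⁻¹⁻¹ := by group
    rw [e]
    exact F.R_conj (inv_mem ha) (inv_mem (ha' c hc))

theorem L_le : F.L ≤ Subgroup.normalizer (F.V : Set G) := fun _ hl => hl.1

theorem L_conj {n l : G} (hn : n ∈ Subgroup.normalizer (F.V : Set G)) (hl : l ∈ F.L) :
    n * l * n⁻¹ ∈ F.L := by
  refine ⟨mul_mem (mul_mem hn hl.1) (inv_mem hn), fun c hc => ?_⟩
  have e : n * l * n⁻¹ * c * (n * l * n⁻¹)⁻¹ * c⁻¹ =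
      n * (l * (n⁻¹ * c * n) * l⁻¹ * (n⁻¹ * c * n)⁻¹) * n⁻¹ := by group
  rw [e]
  refine F.R_conj hn (hl.2 _ ?_)
  have := F.C_conj (inv_mem hn) hc
  rwa [inv_inv] at this

/-- An element of the centraliser of the central involution, normalising the line and commuting
with the stabiliser modulo the group of order sixteen. -/
theorem mem_L_of_ρ {l : G} (hl : l * z = z * l) (hn : OnLine (S.ρ l r85))
    (hcomm : ∀ a ∈ stabK r85, S.ρ l * a * (S.ρ l)⁻¹ * a⁻¹ ∈ Agrp) : l ∈ F.L := by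
  have hN := F.mem_normalizer_V hl hn
  refine ⟨hN, fun c hc => F.mem_R.2 ⟨mul_mem (F.C_conj hN hc) (inv_mem hc), ?_⟩⟩
  have hcz := F.C_z hc
  rw [S.ρ_mul _ _ (F.C_z (F.C_conj hN hc)) (S.z_comm_inv hcz),
    S.ρ_mul _ _ (S.z_comm_mul hl hcz) (S.z_comm_inv hl), S.ρ_mul _ _ hl hcz, S.ρ_inv hl,
    S.ρ_inv hcz]
  exact hcomm _ (F.ρ_C hc)

theorem Q_le_L : Q ≤ F.L := fun q hq => by
  have h1 := (S.ρ_ker q (S.le q hq)).2 hq
  refine F.mem_L_of_ρ (S.le q hq) (by rw [h1]; exact onLine_root) fun a _ => ?_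
  rw [h1]
  simp

theorem exists_scalar_elt : ∃ t ∈ F.L, t * z = z * t ∧ ∀ v, S.ρ t v = ω₄ • v := by
  obtain ⟨d, hd⟩ := exists_scalar ω₄ (by decide +kernel)
  obtain ⟨t, ht, e⟩ := S.ρ_surj _ (Subgroup.mem_map_of_mem lin d.2)
  have hv : ∀ v, S.ρ t v = ω₄ • v := fun v => by
    rw [e, lin_apply, ap_def, hd]
    funext i
    have := mono_mulVec (fun _ => ω₄) 1 v i
    simpa using this
  refine ⟨t, F.mem_L_of_ρ ht (by rw [hv]; exact onLine_omega) fun a ha => ?_, ht, hv⟩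
  have hc : S.ρ t * a = a * S.ρ t := Equiv.ext fun v => by
    rw [Equiv.Perm.mul_apply, Equiv.Perm.mul_apply, hv, hv, (semi_of_mem_Kl ha.1).smul]
    rfl
  rw [hc, mul_inv_cancel_right, mul_inv_cancel]
  exact one_mem _

theorem exists_outer_L : ∃ o ∈ F.L, o * z = z * o ∧
    o * (g * z * g⁻¹) = g * z * g⁻¹ * o ∧ S.ρ o = oP 0 := by
  obtain ⟨o, hoz, hos, e⟩ := F.outer_elt
  have hline : OnLine (S.ρ o r85) := by rw [F.ρ_fix hoz hos]; exact onLine_root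
  refine ⟨o, F.mem_L_of_ρ hoz hline fun a ha => ?_, hoz, hos, e⟩
  have hN := F.mem_normalizer_V hoz hline
  obtain ⟨c, hc, ec⟩ := F.exists_lift_C ha
  have hx := F.ρ_C (mul_mem (F.C_conj hN hc) (inv_mem hc))
  have hcz := F.C_z hc
  rw [S.ρ_mul _ _ (F.C_z (F.C_conj hN hc)) (S.z_comm_inv hcz),
    S.ρ_mul _ _ (S.z_comm_mul hoz hcz) (S.z_comm_inv hoz), S.ρ_mul _ _ hoz hcz, S.ρ_inv hoz,
    S.ρ_inv hcz, ec, e] at hx
  rw [e]
  have hod : oP 0 ∈ dom6 := ⟨1, moves_oP (by norm_num)⟩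
  have had : a ∈ dom6 := stab_le_dom ha
  have hψ : psiS ⟨_, hx⟩ = 1 := by
    show psi (⟨oP 0, hod⟩ * ⟨a, had⟩ * ⟨oP 0, hod⟩⁻¹ * ⟨a, had⟩⁻¹ : ↥dom6) = 1
    rw [map_mul, map_mul, map_mul, map_inv, map_inv,
      psi_eq (g := ⟨oP 0, hod⟩) (moves_oP (by norm_num)), one_mul, inv_one, mul_one, mul_inv_cancel]
  have hk : (⟨_, hx⟩ : ↥(stabK r85)) ∈ psiS.ker := hψ
  rw [psiS_facts.2] at hk
  exact hk

theorem ne_zero_line {t : G} (ht : t ∈ F.V) (h1 : t ≠ 1) (hz : t ≠ z) : S.π t ≠ 0 := fun e =>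
  ((S.π_zero t ht.1).1 e).elim h1 hz

/-- Fixing the central involution, any two other elements are conjugate. -/
theorem exists_fix_z {u t : G} (hu : u ∈ F.V) (ht : t ∈ F.V) (hu1 : u ≠ 1) (huz : u ≠ z)
    (ht1 : t ≠ 1) (htz : t ≠ z) : ∃ l ∈ F.L, l * z = z * l ∧ l * u * l⁻¹ = t := by
  obtain ⟨c, hc⟩ := hu.2
  obtain ⟨d, hd⟩ := ht.2
  have hc0 : c ≠ 0 := fun e => F.ne_zero_line hu hu1 huz (by rw [hc, e, zero_smul])
  have hd0 : d ≠ 0 := fun e => F.ne_zero_line ht ht1 htz (by rw [hd, e, zero_smul])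
  obtain ⟨τ, hτ, hτz, hτv⟩ := F.exists_scalar_elt
  obtain ⟨l, hl, hlz, hlv⟩ : ∃ l ∈ F.L, l * z = z * l ∧ S.ρ l (S.π u) = S.π t := by
    rcases (by decide +kernel : ∀ c d : K4, c ≠ 0 → d ≠ 0 →
      c = d ∨ ω₄ * c = d ∨ ω₄ * (ω₄ * c) = d) c d hc0 hd0 with e | e | e
    · exact ⟨1, one_mem _, by simp, by rw [S.ρ_one, hc, hd, e]; rfl⟩
    · exact ⟨τ, hτ, hτz, by rw [hτv, hc, hd, smul_smul, e]⟩
    · exact ⟨τ * τ, mul_mem hτ hτ, S.z_comm_mul hτz hτz, by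
        rw [S.ρ_mul _ _ hτz hτz, Equiv.Perm.mul_apply, hτv, hτv, hc, hd, smul_smul, smul_smul,
          mul_assoc, e]⟩
  rw [← S.ρ_π l hlz u hu.1] at hlv
  rcases S.π_eq (S.norm l hlz u hu.1) ht.1 hlv with e | e
  · exact ⟨l, hl, hlz, e.symm⟩
  · have h0 : S.π (l * u * l⁻¹) ≠ 0 := by rw [hlv]; exact F.ne_zero_line ht ht1 htz
    obtain ⟨x, hx, hxe⟩ := S.exists_conj_z (S.norm l hlz u hu.1) h0
    refine ⟨x * l, mul_mem (F.Q_le_L hx) hl, S.z_comm_mul (S.le x hx) hlz, ?_⟩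
    rw [e, ← hxe]
    group

theorem exists_fix_zs {t : G} (ht : t ∈ F.V) (h1 : t ≠ 1) (hz : t ≠ z)
    (hs : t ≠ g * z * g⁻¹) (hzs : t ≠ z * (g * z * g⁻¹)) :
    ∃ l ∈ F.L, l * z = z * l ∧ l * (g * z * g⁻¹) = g * z * g⁻¹ * l ∧ l * F.w * l⁻¹ = t := by
  obtain ⟨d, hd⟩ := ht.2
  obtain ⟨o, ho, hoz, hos, eo⟩ := F.exists_outer_L
  have how : S.π (o * F.w * o⁻¹) = (ω₄ * ω₄) • r85 := by
    rw [S.ρ_π o hoz _ F.w_mem.1, eo, F.π_w, (semi_oP 0).smul, F.oP_r85]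
    rfl
  obtain ⟨l, hl, hlz, hls, hlv⟩ : ∃ l ∈ F.L, l * z = z * l ∧
      l * (g * z * g⁻¹) = g * z * g⁻¹ * l ∧ S.π (l * F.w * l⁻¹) = S.π t := by
    rcases (by decide +kernel : ∀ d : K4, d = 0 ∨ d = 1 ∨ d = ω₄ ∨ d = ω₄ * ω₄) d with e | e | e | e
    · exact absurd (by rw [hd, e, zero_smul]) (F.ne_zero_line ht h1 hz)
    · exfalso
      rcases S.π_eq F.s_mem ht.1 (by rw [F.root, hd, e, one_smul]) with e' | e'
      · exact hs e'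
      · exact hzs e'
    · exact ⟨1, one_mem _, by simp, by simp, by rw [one_mul, inv_one, mul_one, F.π_w, hd, e]⟩
    · exact ⟨o, ho, hoz, hos, by rw [how, hd, e]⟩
  rcases S.π_eq (S.norm l hlz _ F.w_mem.1) ht.1 hlv with e | e
  · exact ⟨l, hl, hlz, hls, e.symm⟩
  · obtain ⟨x, hx, hxs, hxw⟩ := F.exists_flip_elt
    have hlx : l * x * l⁻¹ ∈ Q := S.norm l hlz x hx
    refine ⟨l * x, mul_mem hl (F.Q_le_L hx), S.z_comm_mul hlz (S.le x hx), ?_, ?_⟩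
    · rw [mul_assoc, hxs, ← mul_assoc, hls, mul_assoc]
    · rw [e]
      calc l * x * F.w * (l * x)⁻¹ = l * (x * F.w * x⁻¹) * l⁻¹ := by group
        _ = l * z * F.w * l⁻¹ := by rw [hxw]; group
        _ = z * (l * F.w * l⁻¹) := by rw [hlz]; group

theorem exists_move_z {t : G} (ht : t ∈ F.V) (h1 : t ≠ 1) : ∃ l ∈ F.L, l * z * l⁻¹ = t := by
  by_cases htz : t = z
  · exact ⟨1, one_mem _, by simp [htz]⟩
  obtain ⟨k, hk, hk1, hk2, -⟩ := F.exists_swap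
  obtain ⟨x, hx, hxs⟩ := F.pair.exists_x
  obtain ⟨hzs1, hzs2, -⟩ := F.pair.zs_ne
  obtain ⟨l, hl, hlz, hlt⟩ := F.exists_fix_z (mul_mem F.z_mem_V F.s_mem_V) ht hzs1 hzs2 h1 htz
  refine ⟨l * (k * x * k⁻¹), mul_mem hl (F.L_conj hk (F.Q_le_L hx)), ?_⟩
  have hkz : k⁻¹ * z * k = g * z * g⁻¹ := by
    conv_lhs => rw [← hk2]
    group
  calc l * (k * x * k⁻¹) * z * (l * (k * x * k⁻¹))⁻¹
      = l * (k * (x * (k⁻¹ * z * k) * x⁻¹) * k⁻¹) * l⁻¹ := by group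
    _ = l * (k * (z * (g * z * g⁻¹)) * k⁻¹) * l⁻¹ := by rw [hkz, hxs]
    _ = l * ((k * z * k⁻¹) * (k * (g * z * g⁻¹) * k⁻¹)) * l⁻¹ := by group
    _ = l * (z * (g * z * g⁻¹)) * l⁻¹ := by rw [hk1, hk2, F.s_comm]
    _ = t := hlt

/-- Every frame of the group of order eight is reached. -/
theorem exists_frame {a b c : G} (ha : a ∈ F.V) (hb : b ∈ F.V) (hc : c ∈ F.V) (ha1 : a ≠ 1)
    (hb1 : b ≠ 1) (hba : b ≠ a) (hc1 : c ≠ 1) (hca : c ≠ a) (hcb : c ≠ b) (hcab : c ≠ a * b) :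
    ∃ l ∈ F.L, l * z * l⁻¹ = a ∧ l * (g * z * g⁻¹) * l⁻¹ = b ∧ l * F.w * l⁻¹ = c := by
  obtain ⟨l1, hl1, e1⟩ := F.exists_move_z ha ha1
  have hback : ∀ {x}, x ∈ F.V → l1⁻¹ * x * l1 ∈ F.V := fun {x} hx => by
    have := (Subgroup.mem_normalizer_iff.1 (inv_mem (F.L_le hl1)) x).1 hx
    rwa [inv_inv] at this
  have ne1 : ∀ {x y : G}, x ≠ y → l1⁻¹ * x * l1 ≠ l1⁻¹ * y * l1 := fun h e =>
    h (mul_left_cancel (mul_right_cancel e))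
  have i1 : l1⁻¹ * 1 * l1 = 1 := by group
  have iz : l1⁻¹ * a * l1 = z := by rw [← e1]; group
  obtain ⟨l2, hl2, hl2z, e2⟩ := F.exists_fix_z F.s_mem_V (hback hb) F.pair.s_ne_one F.pair.hne
    (i1 ▸ ne1 hb1) (iz ▸ ne1 hba)
  have hback2 : ∀ {x}, x ∈ F.V → l2⁻¹ * x * l2 ∈ F.V := fun {x} hx => by
    have := (Subgroup.mem_normalizer_iff.1 (inv_mem (F.L_le hl2)) x).1 hx
    rwa [inv_inv] at this
  have ne2 : ∀ {x y : G}, x ≠ y → l2⁻¹ * (l1⁻¹ * x * l1) * l2 ≠ l2⁻¹ * (l1⁻¹ * y * l1) * l2 :=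
    fun h e => ne1 h (mul_left_cancel (mul_right_cancel e))
  have j1 : l2⁻¹ * (l1⁻¹ * 1 * l1) * l2 = 1 := by group
  have jz : l2⁻¹ * (l1⁻¹ * a * l1) * l2 = z := by
    rw [iz, mul_assoc, ← hl2z, inv_mul_cancel_left]
  have js : l2⁻¹ * (l1⁻¹ * b * l1) * l2 = g * z * g⁻¹ := by rw [← e2]; group
  have jzs : l2⁻¹ * (l1⁻¹ * (a * b) * l1) * l2 = z * (g * z * g⁻¹) := by
    calc l2⁻¹ * (l1⁻¹ * (a * b) * l1) * l2
        = (l2⁻¹ * (l1⁻¹ * a * l1) * l2) * (l2⁻¹ * (l1⁻¹ * b * l1) * l2) := by group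
      _ = _ := by rw [jz, js]
  obtain ⟨l3, hl3, hl3z, hl3s, e3⟩ := F.exists_fix_zs (hback2 (hback hc)) (j1 ▸ ne2 hc1)
    (jz ▸ ne2 hca) (js ▸ ne2 hcb) (jzs ▸ ne2 hcab)
  refine ⟨l1 * l2 * l3, mul_mem (mul_mem hl1 hl2) hl3, ?_, ?_, ?_⟩
  · calc l1 * l2 * l3 * z * (l1 * l2 * l3)⁻¹ = l1 * (l2 * (l3 * z) * l3⁻¹ * l2⁻¹) * l1⁻¹ := by group
      _ = l1 * (l2 * z * l2⁻¹) * l1⁻¹ := by rw [hl3z]; group
      _ = a := by rw [hl2z, mul_inv_cancel_right, e1]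
  · calc l1 * l2 * l3 * (g * z * g⁻¹) * (l1 * l2 * l3)⁻¹
        = l1 * (l2 * (l3 * (g * z * g⁻¹) * l3⁻¹) * l2⁻¹) * l1⁻¹ := by group
      _ = l1 * (l2 * (g * z * g⁻¹) * l2⁻¹) * l1⁻¹ := by rw [hl3s, mul_inv_cancel_right]
      _ = b := by rw [e2]; group
  · calc l1 * l2 * l3 * F.w * (l1 * l2 * l3)⁻¹
        = l1 * (l2 * (l3 * F.w * l3⁻¹) * l2⁻¹) * l1⁻¹ := by group
      _ = c := by rw [e3]; group

/-- The normaliser is the product of this subgroup and the centraliser. -/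
theorem normalizer_split {n : G} (hn : n ∈ Subgroup.normalizer (F.V : Set G)) :
    ∃ l ∈ F.L, l⁻¹ * n ∈ F.C := by
  have hm : ∀ {x}, x ∈ F.V → n * x * n⁻¹ ∈ F.V := fun {x} hx =>
    (Subgroup.mem_normalizer_iff.1 hn x).1 hx
  have ne : ∀ {x y : G}, x ≠ y → n * x * n⁻¹ ≠ n * y * n⁻¹ := fun h e =>
    h (mul_left_cancel (mul_right_cancel e))
  have i1 : n * 1 * n⁻¹ = 1 := by group
  have iab : n * (z * (g * z * g⁻¹)) * n⁻¹ = n * z * n⁻¹ * (n * (g * z * g⁻¹) * n⁻¹) := by group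
  have hw0 : S.π F.w ≠ 0 := by rw [F.π_w]; exact omega_root_ne.1
  have hwne : F.w ≠ 1 ∧ F.w ≠ z ∧ F.w ≠ g * z * g⁻¹ ∧ F.w ≠ z * (g * z * g⁻¹) := by
    refine ⟨fun e => hw0 (by rw [e, S.π_one]), fun e => hw0 (by rw [e, S.π_z]),
      fun e => omega_root_ne.2 ?_, fun e => omega_root_ne.2 ?_⟩
    · rw [← F.π_w, e, F.root]
    · rw [← F.π_w, e, S.π_zmul F.s_mem, F.root]
  obtain ⟨l, hl, e1, e2, e3⟩ := F.exists_frame (hm F.z_mem_V) (hm F.s_mem_V) (hm F.w_mem)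
    (i1 ▸ ne F.pair.hz1) (i1 ▸ ne F.pair.s_ne_one) (ne F.pair.hne) (i1 ▸ ne hwne.1) (ne hwne.2.1)
    (ne hwne.2.2.1) (iab ▸ ne hwne.2.2.2)
  have key : ∀ x, l * x * l⁻¹ = n * x * n⁻¹ → l⁻¹ * n * x = x * (l⁻¹ * n) := fun x hx => by
    calc l⁻¹ * n * x = l⁻¹ * (n * x * n⁻¹) * n := by group
      _ = x * (l⁻¹ * n) := by rw [← hx]; group
  exact ⟨l, hl, F.mem_C (key _ e1) (key _ e2) (key _ e3)⟩

end Four

end Cfsg.Agent.H89.LFiFour
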